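import Groth.Agent.ShriekAffLib.Model
import Groth.Agent.DualCxLib.Sch
import Groth.Agent.FibDimLib.Apps
import Groth.Agent.NodalLib.SingFamily
import Groth.Agent.ShriekLib.Indep

/-!
# Stalks of the upper shriek of the structure sheaf
-/

set_option autoImplicit false
set_option linter.style.haveILetI false
set_option linter.unusedSectionVars false
set_option backward.isDefEq.respectTransparency false
set_option backward.isDefEq.respectTransparency.types false
set_option maxHeartbeats 1000000
set_option synthInstance.maxHeartbeats 200000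

noncomputable section

universe u

open CategoryTheory CategoryTheory.Limits AlgebraicGeometry
open Groth.Agent

attribute [local instance] HasDerivedCategory.standard

namespace ShriekAffLib

variable {X Y : Scheme.{u}} (f : X ⟶ Y)

/-- A pair of affine charts around a point. -/
theorem exists_charts (x : X) (T : X.Opens) (hx : x ∈ T) :
    ∃ (W : Y.Opens) (_ : IsAffineOpen W) (V : X.Opens) (_ : IsAffineOpen V),
      V ≤ f ⁻¹ᵁ W ∧ x ∈ V ∧ V ≤ T := by
  obtain ⟨_, ⟨W, hW, rfl⟩, hyW, -⟩ := Y.isBasis_affineOpens.exists_subset_of_mem_open (Set.mem_univ (f x)) isOpen_univ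
  obtain ⟨_, ⟨V, hV, rfl⟩, hxV, hVT⟩ := X.isBasis_affineOpens.exists_subset_of_mem_open
    (show x ∈ ((T ⊓ f ⁻¹ᵁ W : X.Opens) : Set X) from ⟨hx, hyW⟩) (T ⊓ f ⁻¹ᵁ W).isOpen
  exact ⟨W, hW, V, hV, fun z hz => (hVT hz).2, hxV, fun z hz => (hVT hz).1⟩

/-- Fibre dimensions on affine charts. -/
theorem fibreDimAt_fromSpec {W : Y.Opens} (hW : IsAffineOpen W) {V : X.Opens} (hV : IsAffineOpen V)
    (hVW : V ≤ f ⁻¹ᵁ W) (p : PrimeSpectrum Γ(X, V)) :
    FlatMor.fibreDimAt (Spec.map (f.appLE W V hVW)) p = FlatMor.fibreDimAt f (hV.fromSpec p) := by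
  refine ((FibDimLib.fibreDimAt_comp_of_discrete (Spec.map (f.appLE W V hVW)) hW.fromSpec p).symm).trans ?_
  rw [hW.SpecMap_appLE_fromSpec f hV hVW]
  exact FibDimLib.fibreDimAt_comp_isOpenImmersion hV.fromSpec f p

/-- A bound on a dimension gives a dimension. -/
theorem exists_eq_of_le {a : WithBot ℕ∞} {n : ℕ} (h : a ≤ (n : WithBot ℕ∞)) (hb : a ≠ ⊥) :
    ∃ d : ℕ, a = (d : WithBot ℕ∞) ∧ d ≤ n := by
  induction a with
  | bot => exact absurd rfl hb
  | coe x =>
    induction x with
    | top => exact absurd (WithBot.coe_le_coe.1 h) (by simp)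
    | coe x =>
      refine ⟨x, rfl, ?_⟩
      have h1 : (x : ℕ∞) ≤ (n : ℕ∞) := WithBot.coe_le_coe.1 h
      exact_mod_cast h1

theorem fibreDimAt_ne_bot (x : X) : FlatMor.fibreDimAt f x ≠ ⊥ := by
  have h : (0 : WithBot ℕ∞) ≤ FlatMor.fibreDimAt f x := by
    rw [← NodalLib.localFibreDim_eq]
    refine le_iInf fun U => le_iInf fun hU => ?_
    haveI : Nonempty ↥U := ⟨⟨_, hU⟩⟩
    haveI : Nonempty (TopologicalSpace.IrreducibleCloseds ↥U) :=
      ⟨⟨irreducibleComponent (Classical.arbitrary _), isIrreducible_irreducibleComponent, isClosed_irreducibleComponent⟩⟩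
    exact Order.krullDim_nonneg
  intro hb
  rw [hb] at h
  simp at h

variable [IsNoetherian Y]
  [∀ (U V : Scheme.{u}) (j : U ⟶ V) [IsOpenImmersion j], PreservesFiniteLimits (Scheme.Modules.restrictFunctor j)]
  {Xb : Scheme.{u}} (j : X ⟶ Xb) (p : Xb ⟶ Y) [IsOpenImmersion j] [IsProper p]

include j p in
/-- The source of a compactified morphism is Noetherian. -/
theorem isNoetherian_source : IsNoetherian X := by
  haveI := ShriekLib.isNoetherian_of_proper p
  haveI : CompactSpace X := QuasiCompact.compactSpace_of_compactSpace j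
  haveI : IsLocallyNoetherian X := isLocallyNoetherian_of_isOpenImmersion j
  exact ⟨⟩

end ShriekAffLib
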