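import Groth.Agent.DualFMLib.FlatHom.Glob
import Groth.Agent.ShriekLib.FlatBC
import Groth.Agent.WeilResLib.Dense.Fibre
import Groth.Agent.LpullTildeLib.Main
import Groth.Agent.HensSchLib.Flat
import Groth.Agent.DRingLib.Basic

/-!
# Charts of the derived restriction to a fibre
-/

set_option autoImplicit false
set_option linter.style.haveILetI false
set_option linter.unusedSectionVars false
set_option backward.isDefEq.respectTransparency false
set_option backward.isDefEq.respectTransparency.types false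
set_option maxHeartbeats 1000000
set_option synthInstance.maxHeartbeats 200000

noncomputable section

universe u

open CategoryTheory CategoryTheory.Limits AlgebraicGeometry
open Groth.Agent
open scoped TensorProduct

attribute [local instance] HasDerivedCategory.standard

namespace ShriekAffLib

variable {X Y : Scheme.{u}}
  [∀ (U V : Scheme.{u}) (j : U ⟶ V) [IsOpenImmersion j], PreservesFiniteLimits (Scheme.Modules.restrictFunctor j)]
  [∀ (R : CommRingCat.{u}), PreservesFiniteLimits (tilde.functor R)]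

/-- Derived restriction to a fibre on an affine chart is derived base change to the residue field. -/
theorem exists_fibre_model (f : X ⟶ Y) {W : Y.Opens} (hW : IsAffineOpen W) {V : X.Opens} (hV : IsAffineOpen V)
    (hVW : V ≤ f ⁻¹ᵁ W) (p : PrimeSpectrum Γ(Y, W)) [DCoh.HasLpull (f.fiberι (hW.fromSpec p))]
    (K : DCoh.D X) (M : Dual.D Γ(X, V))
    (e : (DCoh.restrictD hV.fromSpec).obj K ≅ (DCoh.tildeD Γ(X, V)).obj M) :
    letI : Algebra Γ(Y, W) Γ(X, V) := (f.appLE W V hVW).hom.toAlgebra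
    ∀ [DRing.HasLBaseChange
      (Algebra.TensorProduct.includeRight : Γ(X, V) →ₐ[Γ(Y, W)] p.asIdeal.ResidueField ⊗[Γ(Y, W)] Γ(X, V)).toRingHom],
    ∃ (ε : Spec (CommRingCat.of (p.asIdeal.ResidueField ⊗[Γ(Y, W)] Γ(X, V))) ⟶ f.fiber (hW.fromSpec p))
      (_ : IsOpenImmersion ε),
      ε ≫ f.fiberι (hW.fromSpec p) = Spec.map (CommRingCat.ofHom
        (Algebra.TensorProduct.includeRight :
          Γ(X, V) →ₐ[Γ(Y, W)] p.asIdeal.ResidueField ⊗[Γ(Y, W)] Γ(X, V)).toRingHom) ≫ hV.fromSpec ∧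
      (∀ v, f.fiberι (hW.fromSpec p) v ∈ V → v ∈ Set.range ε) ∧
      Nonempty ((DCoh.restrictD ε).obj ((DCoh.Lpull (f.fiberι (hW.fromSpec p))).obj K) ≅
        (DCoh.tildeD (CommRingCat.of (p.asIdeal.ResidueField ⊗[Γ(Y, W)] Γ(X, V)))).obj
          ((DRing.LBaseChange (Algebra.TensorProduct.includeRight :
            Γ(X, V) →ₐ[Γ(Y, W)] p.asIdeal.ResidueField ⊗[Γ(Y, W)] Γ(X, V)).toRingHom).obj M)) := by
  letI : Algebra Γ(Y, W) Γ(X, V) := (f.appLE W V hVW).hom.toAlgebra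
  intro _
  let k := p.asIdeal.ResidueField
  let ι := f.fiberι (hW.fromSpec p)
  let φ := (Algebra.TensorProduct.includeRight : Γ(X, V) →ₐ[Γ(Y, W)] k ⊗[Γ(Y, W)] Γ(X, V)).toRingHom
  let g := Spec.map (CommRingCat.ofHom φ)
  let j := hV.fromSpec
  obtain ⟨σ, hσi, hσ⟩ := WeilRes.isIso_comp_residue hW.fromSpec p
  haveI := hσi
  obtain ⟨ε, hε, hει, -, hrange⟩ := WeilRes.exists_fibreChart f hW.fromSpec j
    ((hW.SpecMap_appLE_fromSpec f hV hVW).symm) k (hW.fromSpec p) σ hσ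
  haveI := hε
  refine ⟨ε, hε, hει, fun v hv => hrange v (by rw [hV.range_fromSpec]; exact hv), ?_⟩
  haveI := KFlatLib.hasLpull ε
  haveI := KFlatLib.hasLpull j
  haveI := KFlatLib.hasLpull g
  haveI := KFlatLib.hasLpull (ε ≫ ι)
  haveI := KFlatLib.hasLpull (g ≫ j)
  haveI := DCohRestrLib.hasRpush ε
  haveI := DCohRestrLib.hasRpush j
  obtain ⟨c₁⟩ := KFlatLib.lpull_comp ε ι
  obtain ⟨c₂⟩ := KFlatLib.lpull_comp g j
  obtain ⟨c₃⟩ := ShriekLib.nonempty_lpull_congrNat (show ε ≫ ι = g ≫ j from hει)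
  obtain ⟨t⟩ := LpullTildeLib.nonempty_iso φ
  exact ⟨((DualFMLib.lpullRestrIso ε).symm.app _) ≪≫ (c₁ ≪≫ c₃ ≪≫ c₂.symm).app K ≪≫
    (DCoh.Lpull g).mapIso ((DualFMLib.lpullRestrIso j).app K ≪≫ e) ≪≫ (t.symm.app M)⟩

end ShriekAffLib
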