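import Groth.Agent.DualCxLib.DimFnLocal
import Groth.Agent.Dual3Lib.AmplitudeField
import Groth.Agent.DualCxLib.DepthApps
import Groth.Agent.ShriekRingLib.Normalized

/-!
# Degrees of dualizing complexes of algebras of finite type over a field
-/

set_option autoImplicit false
set_option linter.style.haveILetI false
set_option linter.unusedSectionVars false
set_option maxHeartbeats 1000000

noncomputable section

universe u

open CategoryTheory CategoryTheory.Limits
open Groth.Agent Groth.Agent.DualCxLib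

attribute [local instance] HasDerivedCategory.standard

namespace ShriekAffLib

/-- The degree of a field is zero. -/
theorem deg_field (k : Type u) [Field k] (hω : Dual.IsDualizing k (Dual.inD k k)) (p : PrimeSpectrum k) :
    deg hω p = 0 := by
  have hn : Dual.IsNormalized k (Dual.inD k k) := fun i hi =>
    Dual3Lib.subsingleton_ext_of_isField k (Field.toIsField k) (IsLocalRing.maximalIdeal k) i hi
  rw [show p = closedPt k from Subsingleton.elim _ _]
  exact deg_closedPt_of_normalized hω hn

/-- The upper shriek of a field is normalized at every closed point. -/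
theorem deg_maximal_shriekVia (k C : Type u) [Field k] [CommRing C] [IsNoetherianRing C] [Algebra k C] (n : ℕ)
    (ψ : MvPolynomial (Fin n) k →ₐ[k] C) (hψ : Function.Surjective ψ)
    [DRing.HasLBaseChange (algebraMap k (MvPolynomial (Fin n) k))]
    {Rψ : Dual.D (MvPolynomial (Fin n) k) ⥤ Dual.D C} (adj : DRing.restrictD ψ.toRingHom ⊣ Rψ)
    (hk : Dual.IsDualizing k (Dual.inD k k))
    (hω : Dual.IsDualizing C (Dual2.shriekVia n Rψ (Dual.inD k k))) (m : PrimeSpectrum C) (hm : m.asIdeal.IsMaximal) :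
    deg hω m = 0 := by
  haveI := hm
  let p : PrimeSpectrum k := ⟨m.asIdeal.comap (algebraMap k C), inferInstance⟩
  haveI : p.asIdeal.IsMaximal := Ideal.IsPrime.isMaximal' p.isPrime
  obtain ⟨h, -⟩ := ShriekRingLib.line_shriekVia n ψ hψ adj hk p m.asIdeal rfl
  rw [deg_field k hk p] at h
  by_contra hne
  exact (isDeg_deg hω m).2 (@van_of_subsingleton C _ m.asIdeal _ _ _ _ (h _ hne))

variable {C : Type u} [CommRing C] [IsNoetherianRing C] {ω : Dual.D C} (hω : Dual.IsDualizing C ω)

/-- The degree is minus the dimension of the closure. -/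
theorem deg_eq_neg_of_dim (hmax : ∀ m : PrimeSpectrum C, m.asIdeal.IsMaximal → deg hω m = 0)
    (p : PrimeSpectrum C) (d : ℕ) (hd : ringKrullDim (C ⧸ p.asIdeal) = (d : WithBot ℕ∞)) :
    deg hω p = -(d : ℤ) := by
  obtain ⟨l, m, hl, hm, hlen⟩ := exists_series hω p
  rw [hmax m hm] at hlen
  rw [ringKrullDim_quotient] at hd
  let S := PrimeSpectrum.zeroLocus (p.asIdeal : Set C)
  have hge : ∀ i, p ≤ l.toFun i := fun i => hl ▸ LTSeries.head_le l i
  let l' : LTSeries S := ⟨l.length, fun i => ⟨l.toFun i, hge i⟩, fun i => l.step i⟩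
  have h1 : (l.length : WithBot ℕ∞) ≤ (d : WithBot ℕ∞) := hd ▸ Order.LTSeries.length_le_krullDim l'
  have h1' : l.length ≤ d := by exact_mod_cast h1
  obtain ⟨L, hL⟩ := Order.le_krullDim_iff.1 hd.ge
  let L' := L.map Subtype.val (fun _ _ h => h)
  have h2 := length_le_deg_sub hω L'
  have h3 : deg hω p ≤ deg hω L'.head := (deg_strictMono hω).monotone (show p ≤ L'.head from L.head.2)
  obtain ⟨M, hM, hle⟩ := Ideal.exists_le_maximal L'.last.asIdeal L'.last.isPrime.ne_top
  have h4 : deg hω L'.last ≤ 0 :=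
    hmax ⟨M, hM.isPrime⟩ hM ▸ (deg_strictMono hω).monotone (show L'.last ≤ ⟨M, hM.isPrime⟩ from hle)
  change deg hω L'.head + (L.length : ℤ) ≤ _ at h2
  omega

/-- The minimal primes below a point decide the degrees from below. -/
theorem subsingleton_localized_of_lt (Q : PrimeSpectrum C) (i : ℤ)
    (h : ∀ q : PrimeSpectrum C, q.asIdeal ∈ minimalPrimes C → q ≤ Q → i < deg hω q) :
    Subsingleton (LocalizedModule Q.asIdeal.primeCompl (Dual.HD C ω i)) := by
  by_contra hs
  refine (nontrivial_localized_iff (extHL ω i)).1 (not_subsingleton_iff_nontrivial.1 hs)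
    (van_of_lt hω Q i fun r _ hr => ?_)
  obtain ⟨q, hq, hqr⟩ := Ideal.exists_minimalPrimes_le (show (⊥ : Ideal C) ≤ r.asIdeal from bot_le)
  exact lt_of_lt_of_le (h ⟨q, hq.1.1⟩ hq (le_trans (show (⟨q, hq.1.1⟩ : PrimeSpectrum C) ≤ r from hqr) hr))
    ((deg_strictMono hω).monotone (show (⟨q, hq.1.1⟩ : PrimeSpectrum C) ≤ r from hqr))

/-- Some minimal prime below a point has a degree occurring at the point. -/
theorem exists_minimal_deg (Q : PrimeSpectrum C) :
    ∃ q : PrimeSpectrum C, q.asIdeal ∈ minimalPrimes C ∧ q ≤ Q ∧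
      Nontrivial (LocalizedModule Q.asIdeal.primeCompl (Dual.HD C ω (deg hω q))) := by
  obtain ⟨q₀, -, hle, hmin, hne⟩ := exists_min_deg hω Q C (mem_support_ring Q)
  refine ⟨q₀, ?_, hle, (nontrivial_localized_iff (extHL ω _)).2 hne⟩
  refine ⟨⟨q₀.isPrime, bot_le⟩, fun r hr hrq => ?_⟩
  let r' : PrimeSpectrum C := ⟨r, hr.1⟩
  have hle' : r' ≤ q₀ := hrq
  rcases eq_or_lt_of_le hle' with h | h
  · exact (congrArg PrimeSpectrum.asIdeal h).ge
  · exact absurd (hmin r' (mem_support_ring r') (hle'.trans hle)) (not_le.2 (deg_strictMono hω h))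

end ShriekAffLib
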