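import Groth.Agent.DualCxLib.Sch
import Groth.Prelude.Def_Dual3
import Groth.Agent.GorLib.Socle

/-!
# Points of fibres
-/

set_option autoImplicit false
set_option linter.style.haveILetI false
set_option linter.unusedSectionVars false
set_option backward.isDefEq.respectTransparency false
set_option backward.isDefEq.respectTransparency.types false

noncomputable section

universe u

open CategoryTheory CategoryTheory.Limits AlgebraicGeometry
open Groth.Agent

namespace ShriekAffLib

variable {X Y : Scheme.{u}} (f : X ⟶ Y)

theorem apply_fiberι (s : Y) (v : f.fiber s) : f (f.fiberι s v) = s := (f.range_fiberι s).le ⟨v, rfl⟩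

/-- A property of local rings holds at a point of a fibre iff at the corresponding point of the source. -/
theorem fiber_stalk_iff (P : ∀ (A : Type u) [CommRing A], Prop) (s : Y) (v : f.fiber s) :
    P ((f.fiber s).presheaf.stalk v) ↔
      P ((f.fiber (f (f.fiberι s v))).presheaf.stalk (f.asFiber (f.fiberι s v))) := by
  have key : ∀ (t : Y) (v : f.fiber t) (x : X), f x = t → f.fiberι t v = x →
      (P ((f.fiber t).presheaf.stalk v) ↔ P ((f.fiber (f x)).presheaf.stalk (f.asFiber x))) := by
    intro t v x ht hv
    subst ht
    rw [show v = f.asFiber x from (f.fiberι _).isEmbedding.injective (hv.trans (f.fiberι_asFiber x).symm)]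
  exact key s v _ (apply_fiberι f s v) rfl

/-- Localizations of a chart of a fibre. -/
theorem gorenstein_localization_iff {C : Type u} [CommRing C] (s : Y) (ε : Spec (CommRingCat.of C) ⟶ f.fiber s)
    [IsOpenImmersion ε] (Q : PrimeSpectrum C) [Flat f] :
    LocCoh.IsGorensteinLocalRing (Localization.AtPrime Q.asIdeal) ↔ Dual3.IsGorensteinAt f (f.fiberι s (ε Q)) := by
  rw [← GorLib.gorenstein_congr (DualCxLib.stalkRing ε Q),
    fiber_stalk_iff f (fun A [CommRing A] => LocCoh.IsGorensteinLocalRing A) s (ε Q)]
  exact ⟨fun h => ⟨Flat.stalkMap f _, h⟩, fun h => h.2⟩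

/-- Minimal primes of an open chart are generic points of irreducible components. -/
theorem closure_mem_irreducibleComponents {A : Type u} [CommRing A] {Z : Scheme.{u}}
    (k : Spec (CommRingCat.of A) ⟶ Z) [IsOpenImmersion k] (z : PrimeSpectrum A) (hz : z.asIdeal ∈ minimalPrimes A) :
    closure ({k z} : Set Z) ∈ irreducibleComponents Z := by
  let η := (isIrreducible_irreducibleComponent (x := k z)).genericPoint
  have hη : closure ({η} : Set Z) = irreducibleComponent (k z) :=
    (isIrreducible_irreducibleComponent.isGenericPoint_genericPoint_closure).trans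
      isClosed_irreducibleComponent.closure_eq
  have hsp : η ⤳ k z := specializes_iff_mem_closure.2 (hη ▸ mem_irreducibleComponent)
  obtain ⟨w, hw⟩ : η ∈ Set.range k := hsp.mem_open k.opensRange.isOpen ⟨z, rfl⟩
  have hwz : w.asIdeal ≤ z.asIdeal :=
    (PrimeSpectrum.le_iff_specializes w z).2 (k.isOpenEmbedding.isInducing.specializes_iff.1
      (by rw [hw]; exact hsp))
  have hweq : w = z := PrimeSpectrum.ext (le_antisymm hwz (hz.2 ⟨w.isPrime, bot_le⟩ hwz))
  subst hweq
  rw [hw, hη]
  exact irreducibleComponent_mem_irreducibleComponents _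

end ShriekAffLib
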