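import Groth.Agent.ShriekRingLib.FlatSelf
import Groth.Agent.ShriekRingLib.FlatRange
import Groth.Agent.ShriekRingLib.Indep

/-!
# The fibres of the upper shriek are the upper shriek over the residue field
-/

set_option autoImplicit false
set_option linter.all false
set_option maxHeartbeats 1000000

universe u

open CategoryTheory CategoryTheory.Limits MonoidalCategory
open Groth.Agent DTen
open scoped TensorProduct
open DTenLib.Point (hH sg)

attribute [local instance] HasDerivedCategory.standard

noncomputable section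

namespace ShriekAffLib

open ShriekRingLib FinDualLib Groth.Agent.DualCxLib TorIndBCLib

variable (R A : Type u) [CommRing R] [CommRing A] [IsNoetherianRing R] [IsNoetherianRing A] [Algebra R A]
  [Module.Flat R A] (n : ℕ) (ψ : MvPolynomial (Fin n) R →ₐ[R] A)
  [DRing.HasLBaseChange (algebraMap R (MvPolynomial (Fin n) R))]
  {Rψ : Dual.D (MvPolynomial (Fin n) R) ⥤ Dual.D A}

attribute [local instance] MvPolynomial.algebraMvPolynomial Algebra.TensorProduct.rightAlgebra

/-- The fibre of the upper shriek is the upper shriek of the fibre. -/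
theorem exists_fibre_shriekVia (hψ : Function.Surjective ψ) (adj : DRing.restrictD ψ.toRingHom ⊣ Rψ)
    (k : Type u) [Field k] [Algebra R k]
    [DRing.HasLBaseChange (Algebra.TensorProduct.includeRight : A →ₐ[R] k ⊗[R] A).toRingHom]
    [DRing.HasLBaseChange (algebraMap k (MvPolynomial (Fin n) k))] :
    ∃ (ψ' : MvPolynomial (Fin n) k →ₐ[k] k ⊗[R] A) (_ : Function.Surjective ψ')
      (Rψ' : Dual.D (MvPolynomial (Fin n) k) ⥤ Dual.D (k ⊗[R] A)) (_ : DRing.restrictD ψ'.toRingHom ⊣ Rψ'),
      Nonempty ((DRing.LBaseChange (Algebra.TensorProduct.includeRight : A →ₐ[R] k ⊗[R] A).toRingHom).obj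
        (Dual2.shriekVia n Rψ (Dual.inD R R)) ≅ Dual2.shriekVia n Rψ' (Dual.inD k k)) := by
  let P := MvPolynomial (Fin n) R
  let P' := MvPolynomial (Fin n) k
  let A' := k ⊗[R] A
  haveI : DRing.HasLBaseChange (algebraMap A A') :=
    ‹DRing.HasLBaseChange (Algebra.TensorProduct.includeRight : A →ₐ[R] k ⊗[R] A).toRingHom›
  haveI : IsScalarTower R A A' := IsScalarTower.of_algebraMap_eq fun r =>
    (Algebra.TensorProduct.includeRight.commutes r).symm
  letI : Algebra P A := ψ.toRingHom.toAlgebra
  haveI : Module.Finite P A := Module.Finite.of_surjective (Algebra.linearMap P A) hψ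
  let τ : P' →+* A' := (MvPolynomial.aeval fun i => algebraMap A A' (ψ (MvPolynomial.X i))).toRingHom
  letI : Algebra P' A' := τ.toAlgebra
  letI : Algebra P A' := ((algebraMap A A').comp (algebraMap P A)).toAlgebra
  haveI : IsScalarTower P A A' := IsScalarTower.of_algebraMap_eq fun _ => rfl
  have hPA : ∀ r, algebraMap P A (MvPolynomial.C r) = algebraMap R A r := ψ.commutes
  haveI : IsScalarTower P P' A' := IsScalarTower.of_algebraMap_eq' (by
    refine MvPolynomial.ringHom_ext (fun r => ?_) fun i => ?_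
    · show algebraMap A A' (algebraMap P A (MvPolynomial.C r)) = τ (MvPolynomial.map (algebraMap R k) (MvPolynomial.C r))
      rw [hPA, MvPolynomial.map_C, ← IsScalarTower.algebraMap_apply R A A', IsScalarTower.algebraMap_apply R k A']
      exact (MvPolynomial.aeval_C (R := k) (fun i => algebraMap A A' (ψ (MvPolynomial.X i))) _).symm
    · show algebraMap A A' (ψ (MvPolynomial.X i)) = τ (MvPolynomial.map (algebraMap R k) (MvPolynomial.X i))
      rw [MvPolynomial.map_X]
      exact (MvPolynomial.aeval_X (R := k) (fun i => algebraMap A A' (ψ (MvPolynomial.X i))) i).symm)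
  haveI : IsScalarTower R P P' := IsScalarTower.of_algebraMap_eq (R := R) (S := P) (A := P') fun r => (MvPolynomial.map_C (algebraMap R k) r).symm
  haveI : IsScalarTower k P' A' := IsScalarTower.of_algebraMap_eq fun r => (MvPolynomial.aeval_C _ r).symm
  haveI : IsScalarTower R P A := IsScalarTower.of_algebraMap_eq fun r => (ψ.commutes r).symm
  haveI : IsScalarTower R P' A' := IsScalarTower.of_algebraMap_eq fun r => by
    rw [IsScalarTower.algebraMap_apply R k P', ← IsScalarTower.algebraMap_apply k P' A',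
      ← IsScalarTower.algebraMap_apply R k A']
  have hbig : Algebra.IsPushout R A k A' := inferInstance
  haveI hpo : Algebra.IsPushout P A P' A' :=
    (Algebra.IsPushout.comp_iff (T := A) (T' := A') R P k P').1 hbig
  haveI : Algebra.IsPushout P P' A A' := hpo.symm
  haveI : Algebra.IsPushout R P k P' := inferInstance
  have hti : TorInd P P' A := torInd_cancel R k A P P' (torInd_of_flat R k A) (torInd_of_flat R k P)
  have hperf : DRing.IsPerfectModule P A := isPerfectModule_of_flat R n A
  have hsurjP : Function.Surjective τ := fun x => by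
    obtain ⟨w, rfl⟩ := (Algebra.IsPushout.equiv P P' A A').surjective x
    induction w using TensorProduct.induction_on with
    | zero => exact ⟨0, by rw [map_zero, map_zero]⟩
    | tmul s a =>
      obtain ⟨p, rfl⟩ := hψ a
      refine ⟨s * algebraMap P P' p, ?_⟩
      rw [Algebra.IsPushout.equiv_tmul, map_mul]
      exact congrArg _ ((IsScalarTower.algebraMap_apply P P' A' p).symm.trans (IsScalarTower.algebraMap_apply P A A' p))
    | add x y hx hy =>
      obtain ⟨x', hx'⟩ := hx
      obtain ⟨y', hy'⟩ := hy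
      exact ⟨x' + y', by rw [map_add, map_add, hx', hy']⟩
  obtain ⟨W, δ, hδ, ⟨eW⟩⟩ := exists_coUniv_unit R A n ψ adj
  obtain ⟨η₀, hη₀⟩ := exists_univ_base (algebraMap A A') (Dual2.shriekVia n Rψ (Dual.inD R R))
  obtain ⟨Z', ηZ, hηZ⟩ := exists_univ_any (algebraMap A A') W
  obtain ⟨K', ηK, hηK⟩ := exists_univ_any (algebraMap P P') (unit P)
  obtain ⟨eK⟩ := nonempty_univ_unit_iso (hηK.comp_iso (inDUnit P) (Iso.refl _))
  obtain ⟨ε', hε'⟩ := exists_coUniv_bc P P' A A' hti hperf hδ hηK hηZ
  obtain ⟨ηk, hηk⟩ := exists_univ_base (algebraMap k P') (Dual.inD k k)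
  obtain ⟨ek⟩ := nonempty_univ_unit_iso hηk
  obtain ⟨e, -⟩ := exists_iso_univ hη₀ ((isUniv_shift hηZ (n : ℤ)).comp_iso eW (Iso.refl _))
  obtain ⟨⟨Rψ', adj'⟩⟩ := exists_rightAdjoint τ
  obtain ⟨z⟩ := nonempty_iso_of_coUniv (φ := algebraMap P' A') (φ' := τ) rfl (ek ≪≫ eK.symm).symm hε'
    (isCoUniv_of_adjunction τ adj' _)
  exact ⟨MvPolynomial.aeval fun i => algebraMap A A' (ψ (MvPolynomial.X i)), hsurjP, Rψ', adj',
    ⟨e ≪≫ (shiftFunctor _ (n : ℤ)).mapIso z⟩⟩

end ShriekAffLib
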