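import Groth.Agent.ShriekAffLib.Concentrated
import Groth.Agent.PerfDualLib.Dual

/-!
# A single cohomology degree on the fibre gives one on the total space
-/

set_option autoImplicit false
set_option linter.style.haveILetI false
set_option linter.unusedSectionVars false
set_option backward.isDefEq.respectTransparency false
set_option backward.isDefEq.respectTransparency.types false
set_option maxHeartbeats 1000000

noncomputable section

universe u

open CategoryTheory CategoryTheory.Limits HomologicalComplex AlgebraicGeometry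
open Groth.Agent

attribute [local instance] HasDerivedCategory.standard

namespace ShriekAffLib

variable {X Y : Scheme.{u}}

theorem subsingleton_stalk_iff_isZero (M : X.Modules) (x : X) :
    Subsingleton (M.presheaf.stalk x) ↔ IsZero ((DerSch.stalkFunctor X x).obj M) :=
  ⟨fun h => haveI : Subsingleton ((DerSch.stalkFunctor X x).obj M) := h; ModuleCat.isZero_of_subsingleton _,
    fun h => ModuleCat.subsingleton_of_isZero h⟩

/-- The stalk of cohomology computed by a representative. -/
def stalkHomologyIso {P : CochainComplex X.Modules ℤ} {K : DCoh.D X} (e : DCoh.toD X P ≅ K) (x : X) (i : ℤ) :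
    (DerSch.stalkFunctor X x).obj (DCoh.HD K i) ≅ ((KFlatLib.stalkCx X x).obj P).homology i :=
  (DerSch.stalkFunctor X x).mapIso ((DerivedCategory.homologyFunctor X.Modules i).mapIso e.symm ≪≫
      (DerivedCategory.homologyFunctorFactors _ i).app P) ≪≫
    ((P.sc i).mapHomologyIso (DerSch.stalkFunctor X x)).symm

/-- Nakayama: one degree on the fibre at a point gives one degree at the point, flat over the base. -/
theorem stalk_concentrated (f : X ⟶ Y) [Flat f] [LocallyOfFinitePresentation f] (s : Y) (y : f.fiber s)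
    [DCoh.HasLpull (f.fiberι s)] (K : DCoh.D X) (hpc : ∀ m, DCoh.IsPseudoCoherentD m K) (n : ℤ)
    (h : ∀ i, i ≠ n → Subsingleton ((DCoh.HD ((DCoh.Lpull (f.fiberι s)).obj K) i).presheaf.stalk y)) :
    (∀ i, i ≠ n → Subsingleton ((DCoh.HD K i).presheaf.stalk (f.fiberι s y))) ∧
      FlatMod.IsFlatOverAt f (DCoh.HD K n) (f.fiberι s y) := by
  obtain ⟨P, hP, ⟨e⟩⟩ := PerfDualLib.exists_kFlat_model K
  obtain ⟨hs, hk⟩ := Groth.Agent.S9501.result f s y
  let x := f.fiberι s y
  obtain ⟨h₁, h₂⟩ := concentrated_of_fibre (f.stalkMap x).hom ((f.fiberι s).stalkMap y).hom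
    (Flat.stalkMap f _) (RelFlatLib.isEssFP_stalkMap f _) hs hk (KFlatLib.stalks_isKFlat hP x)
    (fun m => RelFlatLib.stalkCx_pc e (hpc m) x) n fun i hi =>
      (((subsingleton_stalk_iff_isZero _ _).1 (h i hi)).of_iso
        (stalkHomologyIso ((KFlatLib.lpullObjIso (f.fiberι s) P hP).symm ≪≫
          (DCoh.Lpull (f.fiberι s)).mapIso e) y i).symm).of_iso
        ((homologyFunctor _ _ i).mapIso (KFlatLib.stalkPullCxIso (f.fiberι s) y P)).symm
  refine ⟨fun i hi => (subsingleton_stalk_iff_isZero _ _).2 ((h₁ i hi).of_iso (stalkHomologyIso e x i)), ?_⟩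
  haveI : Module.Flat (Y.presheaf.stalk (f x))
      ((ModuleCat.restrictScalars.{u} (f.stalkMap x).hom).obj (((KFlatLib.stalkCx X x).obj P).homology n)) := h₂
  change Module.Flat _ ↑((DerSch.stalkOver f x).obj (DCoh.HD K n))
  exact Module.Flat.of_linearEquiv
    ((ModuleCat.restrictScalars.{u} (f.stalkMap x).hom).mapIso (stalkHomologyIso e x n)).toLinearEquiv

end ShriekAffLib

namespace ShriekAffLib

variable {X Y : Scheme.{u}}

theorem hasTorAmplitudeIn_of_acyclic {R : Type u} [CommRing R] {F : CochainComplex (ModuleCat.{u} R) ℤ}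
    (h : ∀ i, IsZero (F.homology i)) (a b : ℤ) : DRing.HasTorAmplitudeIn R a b (DerivedCategory.Q.obj F) := by
  let Z : CochainComplex (ModuleCat.{u} R) ℤ :=
    (HomologicalComplex.single (ModuleCat.{u} R) (ComplexShape.up ℤ) 0).obj (ModuleCat.of R PUnit)
  have hZ : ∀ i, IsZero (Z.X i) := fun i => by
    by_cases hi : i = 0
    · subst hi
      exact (ModuleCat.isZero_of_subsingleton _).of_iso (HomologicalComplex.singleObjXSelf _ _ _)
    · exact HomologicalComplex.isZero_single_obj_X _ _ _ _ hi
  refine ⟨Z, fun i _ => hZ i, fun i => ?_, ?_⟩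
  · haveI := ModuleCat.subsingleton_of_isZero (hZ i)
    infer_instance
  · haveI : QuasiIso (0 : Z ⟶ F) := ⟨fun i => by
      rw [quasiIsoAt_iff_isIso_homologyMap]
      exact ⟨0, ((exactAt_iff_isZero_homology Z i).1 (ExactAt.of_isZero (hZ i))).eq_of_src _ _,
        (h i).eq_of_src _ _⟩⟩
    exact ⟨asIso (DerivedCategory.Q.map (0 : Z ⟶ F))⟩

/-- An acyclic stalk has an acyclic derived restriction to the fibre. -/
theorem stalk_fibre_zero (f : X ⟶ Y) [Flat f] (s : Y) (y : f.fiber s) [DCoh.HasLpull (f.fiberι s)] (K : DCoh.D X)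
    (h : ∀ i, Subsingleton ((DCoh.HD K i).presheaf.stalk (f.fiberι s y))) (i : ℤ) :
    Subsingleton ((DCoh.HD ((DCoh.Lpull (f.fiberι s)).obj K) i).presheaf.stalk y) := by
  obtain ⟨P, hP, ⟨e⟩⟩ := PerfDualLib.exists_kFlat_model K
  refine (subsingleton_stalk_iff_isZero _ _).2 ((RelFlatLib.isZero_pullFibre_of_amp f s y hP (a := i + 1) (b := i + 1)
    (hasTorAmplitudeIn_of_acyclic (fun k => ?_) _ _) i (Or.inl (by omega))).of_iso
      (stalkHomologyIso ((KFlatLib.lpullObjIso (f.fiberι s) P hP).symm ≪≫
        (DCoh.Lpull (f.fiberι s)).mapIso e) y i))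
  let G := ModuleCat.restrictScalars.{u} (f.stalkMap (f.fiberι s y)).hom
  exact (G.map_isZero (((subsingleton_stalk_iff_isZero _ _).1 (h k)).of_iso
    (stalkHomologyIso e (f.fiberι s y) k).symm)).of_iso
      ((((KFlatLib.stalkCx X (f.fiberι s y)).obj P).sc k).mapHomologyIso G)

end ShriekAffLib
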