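import Groth.Agent.ShriekAffLib.Stalk
import Groth.Agent.ShriekAffLib.Fibre
import Groth.Agent.ShriekAffLib.FibreRing
import Groth.Agent.ShriekAffLib.FibreDeg
import Groth.Agent.ShriekAffLib.FibrePoints
import Groth.Agent.ShriekAffLib.Nakayama
import Groth.Agent.KiehlLib.Lift
import Groth.Agent.PerfDualLib.CohPC
import Groth.Agent.S11145
import Groth.Agent.S3612
import Groth.Agent.ShriekRingLib.GorFibres

/-!
# The fibre of the upper shriek around a point
-/

set_option autoImplicit false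
set_option linter.style.haveILetI false
set_option linter.unusedSectionVars false
set_option backward.isDefEq.respectTransparency false
set_option backward.isDefEq.respectTransparency.types false
set_option maxHeartbeats 1000000
set_option synthInstance.maxHeartbeats 200000

noncomputable section

universe u

open CategoryTheory CategoryTheory.Limits AlgebraicGeometry
open Groth.Agent Groth.Agent.DualCxLib
open scoped TensorProduct

attribute [local instance] HasDerivedCategory.standard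

namespace ShriekAffLib

variable {X Y : Scheme.{u}} [IsNoetherian Y] (f : X ⟶ Y) [Flat f]
  [∀ (U V : Scheme.{u}) (j : U ⟶ V) [IsOpenImmersion j], PreservesFiniteLimits (Scheme.Modules.restrictFunctor j)]
  [∀ (R : CommRingCat.{u}), PreservesFiniteLimits (tilde.functor R)]
  [∀ y : Y, DCoh.HasLpull (f.fiberι y)]
  {Xb : Scheme.{u}} (j : X ⟶ Xb) (p : Xb ⟶ Y) [IsOpenImmersion j] [IsProper p] (hf : j ≫ p = f)
  [DCoh.HasRpush p] (hp : DCoh.RpushPreservesQCoh p) (a : DCoh.DQCoh Y ⥤ DCoh.DQCoh Xb)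
  (adj : DCoh.RpushQ p hp ⊣ a) (O : DCoh.DQCoh Y) (hO : Nonempty (O.obj ≅ DCoh.inD Y (Coh.structureModule Y)))

include hf adj hO in
/-- An affine chart of the fibre through a point, with a dualizing complex of degree zero at closed points. -/
theorem exists_fibre_chart (T : X.Opens) (x : X) (hx : x ∈ T) :
    ∃ (C : Type u) (_ : CommRing C) (_ : IsNoetherianRing C) (y : Y)
      (ε : Spec (CommRingCat.of C) ⟶ f.fiber y) (_ : IsOpenImmersion ε) (Q : PrimeSpectrum C)
      (ω : Dual.D C) (hω : Dual.IsDualizing C ω),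
      f.fiberι y (ε Q) = x ∧ (∀ z, f.fiberι y (ε z) ∈ T) ∧
      Nonempty ((DCoh.restrictD ε).obj ((DCoh.Lpull (f.fiberι y)).obj ((DCoh.restrictD j).obj (a.obj O).obj)) ≅
        (DCoh.tildeD (CommRingCat.of C)).obj ω) ∧
      (∀ m : PrimeSpectrum C, m.asIdeal.IsMaximal → deg hω m = 0) ∧
      ∀ n : ℤ, (∀ x' ∈ T, ∀ i, n < i →
          Subsingleton ((DCoh.HD ((DCoh.restrictD j).obj (a.obj O).obj) i).presheaf.stalk x')) →
        ∀ z i, n < i → Subsingleton (LocalizedModule (z : PrimeSpectrum C).asIdeal.primeCompl (Dual.HD C ω i)) := by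
  obtain ⟨W, hW, V, hV, hVW, hxV, hVT⟩ := exists_charts f x T hx
  haveI := isNoetherian_source (X := X) j p
  haveI : LocallyOfFiniteType f := by rw [← hf]; infer_instance
  haveI : IsNoetherianRing Γ(Y, W) := IsLocallyNoetherian.component_noetherian ⟨W, hW⟩
  haveI : IsNoetherianRing Γ(X, V) := IsLocallyNoetherian.component_noetherian ⟨V, hV⟩
  letI : Algebra Γ(Y, W) Γ(X, V) := (f.appLE W V hVW).hom.toAlgebra
  haveI : Module.Flat Γ(Y, W) Γ(X, V) := f.flat_appLE hW hV hVW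
  haveI : Algebra.FiniteType Γ(Y, W) Γ(X, V) := f.finiteType_appLE hW hV hVW
  obtain ⟨m, ψ, hψ, _, Rψ, adjψ, ⟨e⟩⟩ := exists_affine_model f j p hf hp a adj O hO W hW V hV hVW
  obtain ⟨P, rfl⟩ : ∃ P, hV.fromSpec P = x := ⟨_, hV.fromSpec_primeIdealOf ⟨x, hxV⟩⟩
  let q : PrimeSpectrum Γ(Y, W) := ⟨P.asIdeal.comap (algebraMap Γ(Y, W) Γ(X, V)), inferInstance⟩
  let k := q.asIdeal.ResidueField
  let C := k ⊗[Γ(Y, W)] Γ(X, V)
  let φ := (Algebra.TensorProduct.includeRight : Γ(X, V) →ₐ[Γ(Y, W)] C).toRingHom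
  haveI := DRingLib.hasLBaseChange φ
  haveI : DRing.HasLBaseChange (algebraMap k (MvPolynomial (Fin m) k)) := DRingLib.hasLBaseChange _
  haveI : IsNoetherianRing C := Algebra.FiniteType.isNoetherianRing k _
  obtain ⟨ε, hε, hει, hr, ⟨eε⟩⟩ := exists_fibre_model f hW hV hVW q _ _ e
  haveI := hε
  obtain ⟨ψ', hψ', Rψ', adj', ⟨eω⟩⟩ := exists_fibre_shriekVia _ _ m ψ hψ adjψ k
  have hk := ShriekRingLib.isDualizing_field k
  have hω : Dual.IsDualizing C (Dual2.shriekVia m Rψ' (Dual.inD k k)) :=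
    isDualizing_of_iso eω (ShriekRingLib.isDualizing_fibre _ _ m ψ hψ adjψ k)
  have hs : f (hV.fromSpec P) = hW.fromSpec q := by
    rw [← Scheme.Hom.comp_apply, ← hW.SpecMap_appLE_fromSpec f hV hVW, Scheme.Hom.comp_apply]
    rfl
  obtain ⟨v, hv⟩ : ∃ v, f.fiberι (hW.fromSpec q) v = hV.fromSpec P := (f.range_fiberι _).ge hs
  obtain ⟨Q, rfl⟩ := hr v (by rw [hv]; exact hxV)
  have hmem : ∀ z, f.fiberι (hW.fromSpec q) (ε z) ∈ V := fun z => by
    rw [← Scheme.Hom.comp_apply, hει, Scheme.Hom.comp_apply]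
    exact hV.range_fromSpec.le ⟨_, rfl⟩
  let eC := eε ≪≫ (DCoh.tildeD (CommRingCat.of C)).mapIso eω
  refine ⟨C, inferInstance, inferInstance, hW.fromSpec q, ε, hε, Q, _, hω, hv, fun z => hVT (hmem z), ⟨eC⟩,
    fun M hM => deg_maximal_shriekVia k C m ψ' hψ' adj' hk hω M hM, fun n hn z i hi => ?_⟩
  let g := Spec.map (CommRingCat.ofHom φ)
  haveI := KFlatLib.hasLpull g
  let M := (DCoh.restrictD hV.fromSpec).obj ((DCoh.restrictD j).obj (a.obj O).obj)
  haveI : M.IsLE n := (DerivedCategory.isLE_iff _ _).2 fun i hi => by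
    refine (DCohRestrLib.isZero_iff_subsingleton_stalks _).2 fun z => ?_
    haveI := hn _ (hVT (hV.range_fromSpec.le ⟨z, rfl⟩)) i hi
    exact (DCohRestrLib.subsingleton_stalk_of_iso (DCohRestrLib.restrictHDIso hV.fromSpec _ i) z).2
      ((DCohRestrLib.subsingleton_stalk_restrict hV.fromSpec _ z).2 this)
  haveI : ((DCoh.tildeD Γ(X, V)).obj (Dual2.shriekVia m Rψ (Dual.inD Γ(Y, W) Γ(Y, W)))).IsLE n :=
    DerivedCategory.TStructure.t.isLE_of_iso e n
  haveI := KiehlLib.isLE_lpull g ((DCoh.tildeD Γ(X, V)).obj (Dual2.shriekVia m Rψ (Dual.inD Γ(Y, W) Γ(Y, W)))) n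
  obtain ⟨t⟩ := LpullTildeLib.nonempty_iso φ
  haveI : ((DCoh.restrictD ε).obj ((DCoh.Lpull (f.fiberι (hW.fromSpec q))).obj
      ((DCoh.restrictD j).obj (a.obj O).obj))).IsLE n :=
    haveI : DerivedCategory.TStructure.t.IsLE ((DCoh.tildeD (CommRingCat.of Γ(X, V)) ⋙ DCoh.Lpull g).obj
        (Dual2.shriekVia m Rψ (Dual.inD Γ(Y, W) Γ(Y, W)))) n :=
      KiehlLib.isLE_lpull g ((DCoh.tildeD Γ(X, V)).obj (Dual2.shriekVia m Rψ (Dual.inD Γ(Y, W) Γ(Y, W)))) n
    DerivedCategory.TStructure.t.isLE_of_iso (t.symm.app _ ≪≫ eε.symm) n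
  have h0 := (DCohRestrLib.isZero_iff_subsingleton_stalks _).1
    (DerivedCategory.isZero_of_isLE ((DCoh.restrictD ε).obj ((DCoh.Lpull (f.fiberι (hW.fromSpec q))).obj
      ((DCoh.restrictD j).obj (a.obj O).obj))) n i hi) z
  haveI := (DCohRestrLib.subsingleton_stalk_restrict ε _ z).1
    ((DCohRestrLib.subsingleton_stalk_of_iso (DCohRestrLib.restrictHDIso ε _ i) z).1 h0)
  exact (stalkHD ε eC z i).symm.subsingleton

end ShriekAffLib

namespace ShriekAffLib

variable {X Y : Scheme.{u}} [IsNoetherian Y] (f : X ⟶ Y) [Flat f]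
  [∀ (U V : Scheme.{u}) (j : U ⟶ V) [IsOpenImmersion j], PreservesFiniteLimits (Scheme.Modules.restrictFunctor j)]
  [∀ (R : CommRingCat.{u}), PreservesFiniteLimits (tilde.functor R)]
  {Xb : Scheme.{u}} (j : X ⟶ Xb) (p : Xb ⟶ Y) [IsOpenImmersion j] [IsProper p] (hf : j ≫ p = f)
  [DCoh.HasRpush p] (hp : DCoh.RpushPreservesQCoh p) (a : DCoh.DQCoh Y ⥤ DCoh.DQCoh Xb)
  (adj : DCoh.RpushQ p hp ⊣ a) (O : DCoh.DQCoh Y) (hO : Nonempty (O.obj ≅ DCoh.inD Y (Coh.structureModule Y)))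

include hf adj hO in
/-- The upper shriek of the structure sheaf along a flat map lives in degrees at most zero. -/
theorem isLE_zero : ((DCoh.restrictD j).obj (a.obj O).obj).IsLE 0 := by
  refine (DerivedCategory.isLE_iff _ _).2 fun i hi => (DCohRestrLib.isZero_iff_subsingleton_stalks _).2 fun x => ?_
  obtain ⟨W, hW, V, hV, hVW, hxV, -⟩ := exists_charts f x ⊤ trivial
  haveI := isNoetherian_source (X := X) j p
  haveI : IsNoetherianRing Γ(Y, W) := IsLocallyNoetherian.component_noetherian ⟨W, hW⟩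
  haveI : IsNoetherianRing Γ(X, V) := IsLocallyNoetherian.component_noetherian ⟨V, hV⟩
  letI : Algebra Γ(Y, W) Γ(X, V) := (f.appLE W V hVW).hom.toAlgebra
  haveI : Module.Flat Γ(Y, W) Γ(X, V) := f.flat_appLE hW hV hVW
  obtain ⟨m, ψ, hψ, _, Rψ, adjψ, ⟨e⟩⟩ := exists_affine_model f j p hf hp a adj O hO W hW V hV hVW
  obtain ⟨P, rfl⟩ : ∃ P, hV.fromSpec P = x := ⟨_, hV.fromSpec_primeIdealOf ⟨x, hxV⟩⟩
  haveI := ShriekRingLib.subsingleton_above _ _ m ψ hψ adjψ i hi
  exact (stalkHD hV.fromSpec e P i).subsingleton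

include hf adj hO in
/-- Around a point with one degree there is a neighbourhood with one degree. -/
theorem exists_open_one_degree (x : X) (n : ℤ)
    (h : ∀ i, i ≠ n → Subsingleton ((DCoh.HD ((DCoh.restrictD j).obj (a.obj O).obj) i).presheaf.stalk x)) :
    ∃ U : X.Opens, x ∈ U ∧
      ∀ i : ℤ, i ≠ n → IsZero ((DCoh.HD ((DCoh.restrictD j).obj (a.obj O).obj) i).restrict U.ι) := by
  classical
  obtain ⟨W, hW, V, hV, hVW, hxV, -⟩ := exists_charts f x ⊤ trivial
  haveI := isNoetherian_source (X := X) j p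
  haveI : IsNoetherianRing Γ(Y, W) := IsLocallyNoetherian.component_noetherian ⟨W, hW⟩
  haveI : IsNoetherianRing Γ(X, V) := IsLocallyNoetherian.component_noetherian ⟨V, hV⟩
  letI : Algebra Γ(Y, W) Γ(X, V) := (f.appLE W V hVW).hom.toAlgebra
  haveI : Module.Flat Γ(Y, W) Γ(X, V) := f.flat_appLE hW hV hVW
  obtain ⟨m, ψ, hψ, _, Rψ, adjψ, ⟨e⟩⟩ := exists_affine_model f j p hf hp a adj O hO W hW V hV hVW
  obtain ⟨P, rfl⟩ : ∃ P, hV.fromSpec P = x := ⟨_, hV.fromSpec_primeIdealOf ⟨x, hxV⟩⟩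
  obtain ⟨lo, hi, hb, hfin⟩ := ShriekRingLib.finite_bounded_shriekVia _ _ m ψ hψ adjψ
  let H := fun i => Dual.HD Γ(X, V) (Dual2.shriekVia m Rψ (Dual.inD Γ(Y, W) Γ(Y, W))) i
  have hann : ∀ i, i ≠ n → ∃ u ∈ Module.annihilator Γ(X, V) (H i), u ∉ P.asIdeal := fun i hi =>
    SetLike.not_le_iff_exists.1 fun hle => by
      haveI := hfin i
      haveI := h i hi
      exact Module.notMem_support_iff.2 (stalkHD hV.fromSpec e P i).symm.subsingleton
        (Module.mem_support_iff_of_finite.2 hle)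
  choose! u hu hup using hann
  let I := (Finset.Icc lo hi).erase n
  let t := ∏ i ∈ I, u i
  have ht : t ∉ P.asIdeal := fun h => by
    obtain ⟨i, hi, h'⟩ := P.isPrime.prod_mem_iff.1 h
    exact hup i (Finset.mem_erase.1 hi).1 h'
  refine ⟨(basicι t ≫ hV.fromSpec).opensRange, ?_, fun i hin => ?_⟩
  · obtain ⟨y, hy⟩ := (mem_range_basicι t P).2 ht
    exact ⟨y, (Scheme.Hom.comp_apply _ _ _).trans (congrArg _ hy)⟩
  refine (DCohRestrLib.isZero_iff_subsingleton_stalks _).2 fun z => ?_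
  refine (DCohRestrLib.subsingleton_stalk_restrict _ _ z).2 ?_
  obtain ⟨w, hw⟩ := z.2
  have hwt : t ∉ (basicι t w).asIdeal := (mem_range_basicι t _).1 ⟨w, rfl⟩
  rw [show ((basicι t ≫ hV.fromSpec).opensRange.ι z) = hV.fromSpec (basicι t w) from
    hw.symm.trans (Scheme.Hom.comp_apply _ _ _)]
  haveI : Subsingleton (LocalizedModule (basicι t w).asIdeal.primeCompl (H i)) := by
    refine LocalizedModule.subsingleton_iff.2 fun v => ?_
    by_cases hib : i ∈ Finset.Icc lo hi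
    · refine ⟨u i, fun hc => hwt ?_, Module.mem_annihilator.1 (hu i hin) v⟩
      exact Ideal.mem_of_dvd _ (Finset.dvd_prod_of_mem u (Finset.mem_erase.2 ⟨hin, hib⟩)) hc
    · haveI := hb i (by rw [Finset.mem_Icc] at hib; omega)
      exact ⟨1, Submonoid.one_mem _, Subsingleton.elim _ _⟩
  exact (stalkHD hV.fromSpec e (basicι t w) i).subsingleton

end ShriekAffLib
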