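import Groth.Agent.DualCxLib.SchGor

/-!
# Invertible objects on affine charts
-/

set_option autoImplicit false
set_option linter.style.haveILetI false
set_option linter.unusedSectionVars false
set_option backward.isDefEq.respectTransparency false
set_option backward.isDefEq.respectTransparency.types false
set_option maxHeartbeats 1000000

noncomputable section

universe u

open CategoryTheory CategoryTheory.Limits AlgebraicGeometry
open Groth.Agent Groth.Agent.DualCxLib

attribute [local instance] HasDerivedCategory.standard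

namespace ShriekAffLib

variable {X : Scheme.{u}}
  [∀ (U V : Scheme.{u}) (j : U ⟶ V) [IsOpenImmersion j], PreservesFiniteLimits (Scheme.Modules.restrictFunctor j)]
  [∀ (R : CommRingCat.{u}), PreservesFiniteLimits (tilde.functor R)]

/-- A chart with a shift of the ring gives an invertible object. -/
theorem isInvertibleD_range {A : Type u} [CommRing A] (k : Spec (CommRingCat.of A) ⟶ X) [IsOpenImmersion k]
    (K : DCoh.D X) (n : ℤ)
    (e : (DCoh.restrictD k).obj K ≅ (DCoh.tildeD (CommRingCat.of A)).obj ((Dual.inD A A)⟦n⟧)) :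
    Dual3.IsInvertibleD ((DCoh.restrictD k.opensRange.ι).obj K) := by
  intro z
  let T := k.opensRange
  let l : ((⊤ : (T : Scheme.{u}).Opens) : Scheme.{u}) ⟶ Spec (CommRingCat.of A) :=
    (⊤ : (T : Scheme.{u}).Opens).ι ≫ k.isoOpensRange.inv
  haveI : IsOpenImmersion l := inferInstanceAs (IsOpenImmersion (_ ≫ _))
  have h : l ≫ k = (⊤ : (T : Scheme.{u}).Opens).ι ≫ T.ι := by
    rw [Category.assoc]
    congr 1
    rw [Iso.inv_comp_eq]
    exact (Scheme.Hom.isoOpensRange_hom_ι k).symm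
  exact ⟨⊤, n, trivial, ⟨(restrictCompIso (⊤ : (T : Scheme.{u}).Opens).ι T.ι K).symm ≪≫ restrictCongrIso h.symm K ≪≫
    restrictCompIso l k K ≪≫ (DCoh.restrictD l).mapIso (e ≪≫
      ((DCoh.tildeD (CommRingCat.of A)).commShiftIso n).app _ ≪≫
      (shiftFunctor _ n).mapIso (tildeInDSelf (CommRingCat.of A))) ≪≫
    ((DCoh.restrictD l).commShiftIso n).app _ ≪≫ (shiftFunctor _ n).mapIso (restrictInDUnit l)⟩⟩

/-- An invertible object is a shift of the ring on small charts. -/
theorem exists_open_iso_shift {U : X.Opens} {K : DCoh.D X}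
    (hinv : Dual3.IsInvertibleD ((DCoh.restrictD U.ι).obj K)) (x : X) (hx : x ∈ U) :
    ∃ (T : X.Opens) (n : ℤ), x ∈ T ∧ ∀ (A : Type u) [CommRing A] (j : Spec (CommRingCat.of A) ⟶ X) [IsOpenImmersion j]
      (ω : Dual.D A) (_ : (DCoh.restrictD j).obj K ≅ (DCoh.tildeD (CommRingCat.of A)).obj ω),
      Set.range j ⊆ (T : Set X) → Nonempty (ω ≅ (Dual.inD A A)⟦n⟧) := by
  obtain ⟨U', n, hxU', ⟨c⟩⟩ := hinv ⟨x, hx⟩
  refine ⟨U.ι ''ᵁ U', n, ⟨⟨x, hx⟩, hxU', rfl⟩, fun A _ j _ ω d hj => ?_⟩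
  have hrange : Set.range j ⊆ Set.range (U'.ι ≫ U.ι) := by
    intro z hz
    obtain ⟨w, hw, rfl⟩ := hj hz
    exact ⟨⟨w, hw⟩, rfl⟩
  let l := IsOpenImmersion.lift (U'.ι ≫ U.ι) j hrange
  have hl : l ≫ U'.ι ≫ U.ι = j := IsOpenImmersion.lift_fac _ _ hrange
  haveI : IsOpenImmersion l := by
    haveI : IsOpenImmersion (l ≫ U'.ι ≫ U.ι) := by rw [hl]; infer_instance
    exact IsOpenImmersion.of_comp l (U'.ι ≫ U.ι)
  exact nonempty_iso_of_tildeD (d.symm ≪≫ restrictCongrIso hl.symm K ≪≫ restrictCompIso l (U'.ι ≫ U.ι) K ≪≫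
    (DCoh.restrictD l).mapIso (restrictCompIso U'.ι U.ι K ≪≫ c) ≪≫
    ((DCoh.restrictD l).commShiftIso n).app _ ≪≫
    (shiftFunctor _ n).mapIso (restrictInDUnit l ≪≫ (tildeInDSelf (CommRingCat.of A)).symm) ≪≫
    (((DCoh.tildeD (CommRingCat.of A)).commShiftIso n).app _).symm)

end ShriekAffLib
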