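import Groth.Agent.DualBCLib.GorApps
import Groth.Agent.DualBCLib.Local
import Groth.Agent.DualBCLib.Descent
import Groth.Agent.FieldBCDimLib.Basic
import Groth.Agent.FibDimLib.Smooth
import Groth.Agent.CohenLib.RegularField
import Groth.Agent.S0342
import Groth.Agent.TorIndBCLib.Apps
import Groth.Agent.ShriekRingLib.Iso
import Groth.Agent.DualCxLib.Chart2
import Groth.Agent.ShriekRingLib.StepAbs
import Groth.Prelude.Def_FlatCA

/-!
# Degrees of a dualizing complex under a smooth map
-/

set_option autoImplicit false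
set_option linter.style.haveILetI false
set_option linter.unusedSectionVars false
set_option maxHeartbeats 1000000
set_option synthInstance.maxHeartbeats 200000

noncomputable section

universe u

open CategoryTheory CategoryTheory.Limits
open Groth.Agent Groth.Agent.DualCxLib
open DTenLib.Point (hH sg)

attribute [local instance] HasDerivedCategory.standard

namespace ShriekAffLib

open DualBCLib

/-- A Gorenstein quotient of dimension `N` moves the degree by `N`. -/
theorem exists_line_eq {S : Type u} [CommRing S] [IsLocalRing S] [IsNoetherianRing S] {Z : Dual.D S} {a : ℤ}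
    (ha : Z.IsGE a) : ∀ (N : ℕ) (J : Ideal S), LocCoh.IsGorensteinLocalRing (S ⧸ J) →
    ringKrullDim (S ⧸ J) = (N : WithBot ℕ∞) → ∀ d : ℤ,
    (∀ i, i ≠ d → Subsingleton (DualCxLib.Ext Z (ModuleCat.of S (S ⧸ J)) i)) →
    (DualCxLib.Ext Z (ModuleCat.of S (S ⧸ J)) d ≃ₗ[S] (S ⧸ J)) →
    Nonempty (DualCxLib.Ext Z (ModuleCat.of S (S ⧸ IsLocalRing.maximalIdeal S)) (d + N) ≃ₗ[S]
      (S ⧸ IsLocalRing.maximalIdeal S)) := by
  intro N
  induction N with
  | zero =>
    intro J hG hdim d hvan line
    haveI : IsArtinianRing (S ⧸ J) :=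
      isArtinianRing_iff_krullDimLE_zero.2 ((Order.krullDimLE_iff 0 _).2 hdim.le)
    rw [Nat.cast_zero, add_zero]
    exact (exists_line_artinian ha J hG d hvan line).2
  | succ N ih =>
    intro J hG hdim d hvan line
    haveI := hG
    obtain ⟨rs, hrs, hlen⟩ := GorLib.isCM_of_gorenstein (R := S ⧸ J)
    obtain ⟨f, rs', rfl⟩ : ∃ f rs', rs = f :: rs' := by
      rcases rs with _ | ⟨f, rs'⟩
      · rw [hlen] at hdim
        exact absurd hdim (by simp; exact_mod_cast (Nat.succ_ne_zero N).symm)
      · exact ⟨f, rs', rfl⟩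
    obtain ⟨hf, hrest⟩ := CommAlgDim.isRegular_cons_ring.1 hrs
    have hfm : f ∈ IsLocalRing.maximalIdeal (S ⧸ J) := fun hu => by
      haveI := hrest.nontrivial
      exact Ideal.Quotient.nontrivial_iff.1 ‹_› (Ideal.span_singleton_eq_top.2 hu)
    obtain ⟨x, rfl⟩ := Ideal.Quotient.mk_surjective f
    let J' := J ⊔ Ideal.span {x}
    let e : ((S ⧸ J) ⧸ Ideal.span {Ideal.Quotient.mk J x}) ≃+* S ⧸ J' :=
      (Ideal.quotEquivOfEq (by rw [Ideal.map_span, Set.image_singleton])).trans
        (DoubleQuot.quotQuotEquivQuotSup J (Ideal.span {x}))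
    have hG' : LocCoh.IsGorensteinLocalRing (S ⧸ J') :=
      GorLib.gorenstein_of_ringEquiv e.symm ((GorLib.gorenstein_quotient_iff hf hfm).1 hG)
    have hdim' : ringKrullDim (S ⧸ J') = (N : WithBot ℕ∞) := by
      rw [← ringKrullDim_eq_of_ringEquiv e]
      have h1 := ringKrullDim_quotient_span_singleton_succ_eq_ringKrullDim hf hfm
      rw [hdim] at h1
      revert h1
      generalize ringKrullDim ((S ⧸ J) ⧸ Ideal.span {Ideal.Quotient.mk J x}) = D
      induction D using WithBot.recBotCoe with
      | bot =>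
        intro h
        rw [WithBot.bot_add] at h
        exact absurd h.symm (by simp [WithBot.natCast_ne_bot])
      | coe D =>
        induction D using ENat.recTopCoe with
        | top =>
          intro h
          have h' : ((⊤ : ℕ∞) + 1 : ℕ∞) = ((N + 1 : ℕ) : ℕ∞) := by exact_mod_cast h
          rw [top_add] at h'
          exact absurd h'.symm (ENat.natCast_ne_top _)
        | coe D =>
          intro h
          have : D + 1 = N + 1 := by exact_mod_cast h
          exact_mod_cast Nat.succ.inj this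
    obtain ⟨hvan', ⟨line'⟩⟩ := exists_quotient_step J x hf d hvan line
    have h := ih J' hG' hdim' (d + 1) hvan' line'
    rw [Nat.cast_succ, add_comm (N : ℤ) 1, ← add_assoc]
    exact h

variable {A B : Type u} [CommRing A] [CommRing B] [Algebra A B]

/-- The dimension of a local ring from the local dimension and the transcendence degree. -/
theorem exists_dim_atPrime {F R : Type u} [Field F] [CommRing R] [Algebra F R] [Algebra.FiniteType F R]
    (Q : PrimeSpectrum R) (n t : ℕ) (htr : Algebra.trdeg F Q.asIdeal.ResidueField = t)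
    (hQd : FlatMor.localDim (PrimeSpectrum R) Q = (n : WithBot ℕ∞)) :
    ∃ N : ℕ, N + t = n ∧ ringKrullDim (Localization.AtPrime Q.asIdeal) = (N : WithBot ℕ∞) := by
  haveI : IsNoetherianRing R := Algebra.FiniteType.isNoetherianRing F R
  have hsum := FieldBCDimLib.localDim_eq_trdeg_add Q t htr
  rw [hQd] at hsum
  obtain ⟨N, hN⟩ : ∃ N : ℕ, ringKrullDim (Localization.AtPrime Q.asIdeal) = (N : WithBot ℕ∞) := by
    rw [IsLocalization.AtPrime.ringKrullDim_eq_height Q.asIdeal (Localization.AtPrime Q.asIdeal)]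
    obtain ⟨N, hN⟩ := ENat.ne_top_iff_exists.mp (Ideal.height_ne_top (I := Q.asIdeal) Ideal.IsPrime.ne_top')
    exact ⟨N, by rw [← hN]; rfl⟩
  rw [hN] at hsum
  have : n = t + N := by exact_mod_cast hsum
  exact ⟨N, by omega, hN⟩


/-- Local rings of fibre rings, seen on the total ring. -/
theorem nonempty_fibre_loc_equiv (p : Ideal A) [p.IsPrime] (q : Ideal B) [q.IsPrime]
    (Q : PrimeSpectrum (p.Fiber B))
    (hQ : Q.asIdeal.comap (Algebra.TensorProduct.includeRight : B →ₐ[A] p.Fiber B).toRingHom = q) :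
    Nonempty (Localization.AtPrime Q.asIdeal ≃+*
      Localization.AtPrime q ⧸ p.map (algebraMap A (Localization.AtPrime q))) := by
  obtain rfl : Q.asIdeal.comap (Algebra.TensorProduct.includeRight : B →ₐ[A] p.Fiber B) = q := hQ
  exact ⟨(Ideal.Fiber.algEquivAux₂ p Q.asIdeal).toRingEquiv.trans
    (Ideal.quotEquivOfEq (by rw [Ideal.map_map, ← IsScalarTower.algebraMap_eq]))⟩

/-- The dimension and regularity of the local ring of a smooth fibre. -/
theorem exists_fibre_regular {n : ℕ} (hs : FlatCA.SmoothRelDim n A B) (p : Ideal A) [p.IsPrime]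
    (q : Ideal B) [q.IsPrime] [hq : q.LiesOver p] (t : ℕ)
    (ht : @Algebra.trdeg p.ResidueField q.ResidueField _ _
      (Ideal.ResidueField.mapₐ p q (Algebra.ofId A B) hq.over).toRingHom.toAlgebra = (t : Cardinal.{u})) :
    Module.Flat A B ∧ ∃ N : ℕ, N + t = n ∧
      LocCoh.IsGorensteinLocalRing (Localization.AtPrime q ⧸ p.map (algebraMap A (Localization.AtPrime q))) ∧
      ringKrullDim (Localization.AtPrime q ⧸ p.map (algebraMap A (Localization.AtPrime q))) = (N : WithBot ℕ∞) := by
  let f := AlgebraicGeometry.Spec.map (CommRingCat.ofHom (algebraMap A B))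
  haveI : AlgebraicGeometry.SmoothOfRelativeDimension n f := hs
  haveI : AlgebraicGeometry.Smooth f := AlgebraicGeometry.SmoothOfRelativeDimension.smooth n f
  haveI : Algebra.Smooth A B :=
    RingHom.smooth_algebraMap.1 ((AlgebraicGeometry.HasRingHomProperty.Spec_iff (P := @AlgebraicGeometry.Smooth)).1 ‹_›)
  refine ⟨inferInstance, ?_⟩
  let k := p.ResidueField
  let C := p.Fiber B
  obtain ⟨Q, hQ, hQd⟩ : ∃ Q : PrimeSpectrum C,
      Q.asIdeal.comap (Algebra.TensorProduct.includeRight : B →ₐ[A] C).toRingHom = q ∧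
        FlatMor.localDim (PrimeSpectrum C) Q = (n : WithBot ℕ∞) := by
    have h0 := FibDimLib.fibreDimAt_specMap A B ⟨q, inferInstance⟩
    have hp : (PrimeSpectrum.comap (algebraMap A B) ⟨q, inferInstance⟩ : PrimeSpectrum A) = ⟨p, inferInstance⟩ :=
      PrimeSpectrum.ext hq.over.symm
    rw [hp] at h0
    obtain ⟨Q, hQ, hQd⟩ := h0
    exact ⟨Q, hQ, hQd.trans (FibDimLib.fibreDimAt_smoothOfRelativeDimension n f _)⟩
  haveI : IsRegularRing C := CohenLib.isRegularRing_of_smooth k C
  haveI : IsNoetherianRing C := Algebra.FiniteType.isNoetherianRing k C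
  letI : Algebra k q.ResidueField := (Ideal.ResidueField.mapₐ p q (Algebra.ofId A B) hq.over).toRingHom.toAlgebra
  letI : Algebra k Q.asIdeal.ResidueField := IsLocalRing.ResidueField.algebra (Localization.AtPrime Q.asIdeal)
  haveI : IsScalarTower A k Q.asIdeal.ResidueField := IsScalarTower.of_algebraMap_eq fun a =>
    congrArg (IsLocalRing.residue (Localization.AtPrime Q.asIdeal))
      (IsScalarTower.algebraMap_apply A k (Localization.AtPrime Q.asIdeal) a)
  let ι : B →ₐ[A] C := Algebra.TensorProduct.includeRight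
  let g : q.ResidueField →ₐ[A] Q.asIdeal.ResidueField := Ideal.ResidueField.mapₐ q Q.asIdeal ι hQ.symm
  have hg : ∀ b : B, g (algebraMap B q.ResidueField b) = algebraMap C Q.asIdeal.ResidueField (ι b) := fun b =>
    Ideal.ResidueField.map_algebraMap q Q.asIdeal ι.toRingHom hQ.symm b
  have hk : ∀ c : k, g (algebraMap k q.ResidueField c) = algebraMap k Q.asIdeal.ResidueField c := fun c =>
    RingHom.congr_fun (show g.toRingHom.comp (algebraMap k q.ResidueField) = algebraMap k Q.asIdeal.ResidueField from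
      Ideal.ResidueField.ringHom_ext (RingHom.ext fun a => by
        show g (Ideal.ResidueField.mapₐ p q (Algebra.ofId A B) hq.over (algebraMap A k a)) = _
        rw [AlgHom.commutes, AlgHom.commutes]
        exact IsScalarTower.algebraMap_apply A k Q.asIdeal.ResidueField a)) c
  let g' : q.ResidueField →ₐ[k] Q.asIdeal.ResidueField := { g with commutes' := hk }
  have hbij : Function.Bijective g' := by
    refine ⟨g.toRingHom.injective, fun z => ?_⟩
    have hz : ∀ z : C, ∃ y : q.ResidueField, g y = algebraMap C Q.asIdeal.ResidueField z := fun z => by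
      obtain ⟨r, hr, c, hrc⟩ := Ideal.Fiber.exists_smul_eq_one_tmul p z
      refine ⟨(algebraMap A q.ResidueField r)⁻¹ * algebraMap B q.ResidueField c, ?_⟩
      have hne : algebraMap A Q.asIdeal.ResidueField r ≠ 0 := by
        rw [IsScalarTower.algebraMap_apply A k Q.asIdeal.ResidueField]
        exact (map_ne_zero _).2 fun h => hr (Ideal.algebraMap_residueField_eq_zero.1 h)
      rw [map_mul, map_inv₀, AlgHom.commutes, hg, inv_mul_eq_div, div_eq_iff hne]
      rw [show ι c = r • z from hrc.symm, Algebra.smul_def, map_mul,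
        ← IsScalarTower.algebraMap_apply A C Q.asIdeal.ResidueField, mul_comm]
    obtain ⟨a, b, hb, rfl⟩ := IsFractionRing.div_surjective (C ⧸ Q.asIdeal) z
    obtain ⟨a, rfl⟩ := Ideal.Quotient.mk_surjective a
    obtain ⟨b, rfl⟩ := Ideal.Quotient.mk_surjective b
    obtain ⟨y, hy⟩ := hz a
    obtain ⟨y', hy'⟩ := hz b
    refine ⟨y / y', ?_⟩
    show g (y / y') = _
    rw [map_div₀, hy, hy']
    rfl
  have htr : Algebra.trdeg k Q.asIdeal.ResidueField = (t : Cardinal.{u}) :=
    ((AlgEquiv.ofBijective g' hbij).trdeg_eq).symm.trans ht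
  obtain ⟨N, hNt, hN⟩ := exists_dim_atPrime (F := k) (R := C) Q n t htr hQd
  obtain ⟨e⟩ := nonempty_fibre_loc_equiv (A := A) (B := B) p q Q hQ
  haveI : IsNoetherianRing (Localization.AtPrime Q.asIdeal) :=
    IsLocalization.isNoetherianRing Q.asIdeal.primeCompl _ inferInstance
  haveI hG : LocCoh.IsGorensteinLocalRing (Localization.AtPrime Q.asIdeal) :=
    Groth.Agent.S0342.result (Localization.AtPrime Q.asIdeal)
  exact ⟨N, hNt, GorLib.gorenstein_of_ringEquiv e.symm hG, (ringKrullDim_eq_of_ringEquiv e).symm.trans hN⟩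

end ShriekAffLib

namespace ShriekAffLib

open DualBCLib ShriekRingLib FlatExtLib

variable {A B : Type u} [CommRing A] [CommRing B] [Algebra A B]

/-- The degree of the base change at a point of a smooth algebra. -/
theorem nontrivial_hom_smooth [IsNoetherianRing A] {n : ℕ} (hs : FlatCA.SmoothRelDim n A B) {ω : Dual.D A}
    (hω : Dual.IsDualizing A ω) (p : Ideal A) [p.IsPrime] (q : Ideal B) [q.IsPrime] [hq : q.LiesOver p]
    [DRing.HasLBaseChange (algebraMap A (Localization.AtPrime p))]
    [DRing.HasLBaseChange (algebraMap A (Localization.AtPrime q))] (d : ℤ)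
    (hd : Nontrivial (Dual.inD (Localization.AtPrime p) p.ResidueField ⟶
      ((DRing.LBaseChange (algebraMap A (Localization.AtPrime p))).obj ω)⟦d⟧))
    (t : ℕ) (ht : @Algebra.trdeg p.ResidueField q.ResidueField _ _
      (Ideal.ResidueField.mapₐ p q (Algebra.ofId A B) hq.over).toRingHom.toAlgebra = (t : Cardinal.{u})) :
    Nontrivial (Dual.inD (Localization.AtPrime q) q.ResidueField ⟶
      ((DRing.LBaseChange (algebraMap A (Localization.AtPrime q))).obj ω)⟦(d - (t : ℤ) + (n : ℤ))⟧) := by
  obtain ⟨hflat, N, hNt, hG, hdim⟩ := exists_fibre_regular hs p q t ht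
  haveI := hflat
  let Ap := Localization.AtPrime p
  let L := Localization.AtPrime q
  haveI : Algebra.FiniteType A B := by
    haveI : AlgebraicGeometry.SmoothOfRelativeDimension n
      (AlgebraicGeometry.Spec.map (CommRingCat.ofHom (algebraMap A B))) := hs
    haveI := AlgebraicGeometry.SmoothOfRelativeDimension.smooth n
      (AlgebraicGeometry.Spec.map (CommRingCat.ofHom (algebraMap A B)))
    have h : AlgebraicGeometry.LocallyOfFiniteType
      (AlgebraicGeometry.Spec.map (CommRingCat.ofHom (algebraMap A B))) := inferInstance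
    exact RingHom.finiteType_algebraMap.1
      ((AlgebraicGeometry.HasRingHomProperty.Spec_iff (P := @AlgebraicGeometry.LocallyOfFiniteType)).1 h)
  haveI : IsNoetherianRing B := Algebra.FiniteType.isNoetherianRing A B
  haveI : IsNoetherianRing Ap := IsLocalization.isNoetherianRing p.primeCompl _ inferInstance
  haveI : IsNoetherianRing L := IsLocalization.isNoetherianRing q.primeCompl _ inferInstance
  letI := Localization.AtPrime.algebraOfLiesOver p q
  haveI : Module.Flat A L := Module.Flat.trans A B L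
  haveI : Module.Flat Ap L := (Module.flat_iff_of_isLocalization Ap p.primeCompl _).2 inferInstance
  haveI : DRing.HasLBaseChange (algebraMap Ap L) := DRingLib.hasLBaseChange _
  let ωp := (DRing.LBaseChange (algebraMap A Ap)).obj ω
  obtain ⟨η₁, hη₁⟩ := TorIndBCLib.exists_univ_base (algebraMap A Ap) ω
  obtain ⟨Zl, ηl, hul, hll⟩ := exists_loc_any (L := Ap) p.primeCompl ω
  obtain ⟨c, -⟩ := exists_iso_univ hul hη₁
  obtain ⟨d₀, hd₀⟩ := isPointwiseDual_of_isDualizing
    (isDualizing_of_iso c (isDualizing_loc p.primeCompl hω hul hll))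
  obtain rfl : d = d₀ := by
    by_contra hne
    exact not_subsingleton_iff_nontrivial.2 hd (hd₀.vanishes d hne)
  obtain ⟨a, ha⟩ := hd₀.bddBelow
  obtain ⟨η₂, hη₂, hu₂⟩ := exists_bc_univ_base (S := L) ωp
  obtain ⟨η₃, hη₃⟩ := TorIndBCLib.exists_univ_base (algebraMap A L) ω
  obtain ⟨k, -⟩ := exists_iso_univ (isUniv_comp (θ := algebraMap A L)
    (IsScalarTower.algebraMap_eq A Ap L).symm hη₁ hu₂) hη₃
  let Z := (DRing.LBaseChange (algebraMap Ap L)).obj ωp
  let J : Ideal L := (IsLocalRing.maximalIdeal Ap).map (algebraMap Ap L)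
  have hJ : p.map (algebraMap A L) = J := by
    show _ = (IsLocalRing.maximalIdeal Ap).map (algebraMap Ap L)
    rw [← Localization.AtPrime.map_eq_maximalIdeal, Ideal.map_map, ← IsScalarTower.algebraMap_eq]
  let ek : TensorProduct Ap L (Ap ⧸ IsLocalRing.maximalIdeal Ap) ≃ₗ[L] L ⧸ J :=
    (Algebra.TensorProduct.quotIdealMapEquivTensorQuot L (IsLocalRing.maximalIdeal Ap)).symm.toLinearEquiv
  have eExt : ∀ i, Nonempty (TensorProduct Ap L (DualCxLib.Ext ωp (ModuleCat.of Ap (Ap ⧸ IsLocalRing.maximalIdeal Ap)) i)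
      ≃ₗ[L] DualCxLib.Ext Z (ModuleCat.of L (L ⧸ J)) i) := fun i => by
    obtain ⟨E⟩ := nonempty_ext_bc ha hη₂ (Ap ⧸ IsLocalRing.maximalIdeal Ap) i
    exact ⟨E.trans (precompL ((DerivedCategory.singleFunctor (ModuleCat.{u} L) 0).mapIso
      ek.toModuleIso) (Z⟦i⟧))⟩
  obtain ⟨line₀⟩ := hd₀.line
  obtain ⟨E⟩ := eExt d
  have line : DualCxLib.Ext Z (ModuleCat.of L (L ⧸ J)) d ≃ₗ[L] L ⧸ J :=
    E.symm.trans ((TensorProduct.AlgebraTensorModule.congr (LinearEquiv.refl L L) line₀).trans ek)
  have hG' : LocCoh.IsGorensteinLocalRing (L ⧸ J) :=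
    GorLib.gorenstein_of_ringEquiv (Ideal.quotEquivOfEq hJ).symm hG
  obtain ⟨e⟩ := exists_line_eq (Z := Z) (exists_isGE hη₂ ha).2 N J hG'
    ((ringKrullDim_eq_of_ringEquiv (Ideal.quotEquivOfEq hJ)).symm.trans hdim) d (fun i hi => by
      obtain ⟨E⟩ := eExt i
      haveI : Subsingleton (DualCxLib.Ext ωp (ModuleCat.of Ap (Ap ⧸ IsLocalRing.maximalIdeal Ap)) i) :=
        hd₀.vanishes i hi
      haveI := subsingleton_tensor (A := Ap) (S := L)
        (V := DualCxLib.Ext ωp (ModuleCat.of Ap (Ap ⧸ IsLocalRing.maximalIdeal Ap)) i)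
      exact E.symm.toEquiv.subsingleton) line
  haveI : Nontrivial (L ⧸ IsLocalRing.maximalIdeal L) :=
    Ideal.Quotient.nontrivial_iff.2 (IsLocalRing.maximalIdeal.isMaximal L).ne_top
  rw [show d - (t : ℤ) + (n : ℤ) = d + N by omega]
  exact (e.trans (LinearEquiv.refl L _)).toEquiv.nontrivial_congr.2 inferInstance |>
    (postcompL (Dual.inD L (IsLocalRing.ResidueField L)) ((shiftFunctor _ (d + (N : ℤ))).mapIso k)).toEquiv.nontrivial_congr.1

end ShriekAffLib
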