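import Groth.Agent.ShriekAffLib.CMExt
import Groth.Agent.ShriekRingLib.FlatRange
import Groth.Agent.DerLib.Devissage

/-!
# A flat cohomology module in one degree gives Cohen–Macaulay fibres
-/

set_option autoImplicit false
set_option linter.style.haveILetI false
set_option linter.unusedSectionVars false
set_option backward.isDefEq.respectTransparency false
set_option backward.isDefEq.respectTransparency.types false
set_option maxHeartbeats 1000000
set_option synthInstance.maxHeartbeats 200000

noncomputable section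

universe u

open CategoryTheory CategoryTheory.Limits
open Groth.Agent Groth.Agent.DualCxLib
open DTenLib.Point (hH sg)
open scoped TensorProduct
open DTen

attribute [local instance] HasDerivedCategory.standard

namespace ShriekAffLib

open ShriekRingLib TorIndBCLib

variable {R B : Type u} [CommRing R] [CommRing B] [Algebra R B]

/-- Coheight in the spectrum is the dimension of the closure. -/
theorem coheight_eq_dim {C : Type u} [CommRing C] (q : PrimeSpectrum C) :
    (Order.coheight q : WithBot ℕ∞) = ringKrullDim (C ⧸ q.asIdeal) := by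
  rw [Order.coheight_eq_krullDim_Ici, ringKrullDim_quotient]
  refine congrArg (fun s : Set (PrimeSpectrum C) => Order.krullDim s) (Set.ext fun r => ?_)
  exact Iff.rfl

/-- Base change of a complex with one flat cohomology module has one cohomology module. -/
theorem subsingleton_lbase [Module.Flat R B] (M : Dual.D B) (n : ℤ)
    (hz : ∀ i, i ≠ n → Subsingleton (Dual.HD B M i)) (hf : RelPerfLib.RFlat R ((hH B n).obj M))
    (R' : Type u) [CommRing R'] [Algebra R R']
    [DRing.HasLBaseChange (Algebra.TensorProduct.includeRight : B →ₐ[R] R' ⊗[R] B).toRingHom]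
    (i : ℤ) (hi : i ≠ n) :
    Subsingleton (Dual.HD (R' ⊗[R] B)
      ((DRing.LBaseChange (Algebra.TensorProduct.includeRight : B →ₐ[R] R' ⊗[R] B).toRingHom).obj M) i) := by
  let A' := R' ⊗[R] B
  letI : Algebra B A' := Algebra.TensorProduct.rightAlgebra
  haveI : IsScalarTower R B A' := IsScalarTower.of_algebraMap_eq fun r =>
    ((Algebra.TensorProduct.includeRight : B →ₐ[R] A').commutes r).symm
  haveI : DRing.HasLBaseChange (algebraMap B A') :=
    ‹DRing.HasLBaseChange (Algebra.TensorProduct.includeRight : B →ₐ[R] R' ⊗[R] B).toRingHom›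
  let φ := algebraMap R B
  have hr : ∀ j, IsZero ((hH B j).obj M) → IsZero ((hH R j).obj ((DRing.restrictD φ).obj M)) :=
    fun j h => isZero_of_restrict φ M j h
  have hz' : ∀ j, j ≠ n → IsZero ((hH B j).obj M) := fun j hj =>
    haveI := hz j hj
    ModuleCat.isZero_of_subsingleton _
  haveI : ((DRing.restrictD φ).obj M).IsGE n :=
    (DerivedCategory.isGE_iff _ n).2 fun j hj => hr j (hz' j (by omega))
  haveI : ((DRing.restrictD φ).obj M).IsLE n :=
    (DerivedCategory.isLE_iff _ n).2 fun j hj => hr j (hz' j (by omega))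
  obtain ⟨c⟩ := Groth.Agent.DerLib.Devissage.nonempty_iso_single ((DRing.restrictD φ).obj M) n
  let H := (hH R n).obj ((DRing.restrictD φ).obj M)
  let E : DRing.Cx R := (HomologicalComplex.single (ModuleCat.{u} R) (ComplexShape.up ℤ) n).obj H
  have hE : DRing.VanishesOutside E n n := fun j hj =>
    HomologicalComplex.isZero_single_obj_X _ _ _ _ (by omega)
  have hH' : Module.Flat R H :=
    @Module.Flat.of_linearEquiv _ _ _ _ _ _ _ _ hf
      ((DerLib.ExactHomology.homologyIso (ModuleCat.restrictScalars.{u} φ) n).app M).toLinearEquiv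
  have hEf : DRing.TermwiseFlat E := fun j => by
    by_cases hj : j = n
    · subst hj
      exact Module.Flat.of_linearEquiv (HomologicalComplex.singleObjXSelf _ _ H).toLinearEquiv
    · haveI := ModuleCat.subsingleton_of_isZero
        (HomologicalComplex.isZero_single_obj_X (ComplexShape.up ℤ) n H j hj)
      infer_instance
  let e : DerivedCategory.Q.obj E ≅ (DRing.restrictD φ).obj M :=
    ((DerivedCategory.singleFunctorIsoCompQ (ModuleCat.{u} R) n).app H).symm ≪≫ c.symm
  obtain ⟨ηA, hηA⟩ := exists_univ_base (algebraMap B A') M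
  haveI : Algebra.IsPushout R R' B A' := inferInstance
  have h2 := isUniv_res_tor R R' B A' (torInd_of_flat R R' B) hηA
  obtain ⟨c', -⟩ := exists_iso_univ h2
    ((isUniv_γ_kf (algebraMap R R') (DRingLib.isKFlat_of_flatAmplitude hE hEf)).comp_iso e.symm (Iso.refl _))
  have h0 : IsZero (((extCx (algebraMap R R')).obj E).homology i) := by
    rw [← HomologicalComplex.exactAt_iff_isZero_homology]
    exact HomologicalComplex.ExactAt.of_isZero
      ((ModuleCat.extendScalars.{u, u, u} (algebraMap R R')).map_isZero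
        (HomologicalComplex.isZero_single_obj_X (ComplexShape.up ℤ) n H i hi))
  have h1 := (h0.of_iso ((DerivedCategory.homologyFunctorFactors (ModuleCat.{u} R') i).app _)).of_iso
    ((hH R' i).mapIso c')
  have h3 := h1.of_iso ((DerLib.ExactHomology.homologyIso (ModuleCat.restrictScalars.{u} (algebraMap R' A')) i).app
    ((DRing.LBaseChange (algebraMap B A')).obj M)).symm
  exact ModuleCat.subsingleton_of_isZero
    (M := (ModuleCat.restrictScalars.{u} (algebraMap R' A')).obj
      ((hH A' i).obj ((DRing.LBaseChange (algebraMap B A')).obj M))) h3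

variable [IsNoetherianRing R] [IsNoetherianRing B] [Module.Flat R B] (N n : ℕ)
  (ψ : MvPolynomial (Fin N) R →ₐ[R] B)
  [DRing.HasLBaseChange (algebraMap R (MvPolynomial (Fin N) R))]
  {Rψ : Dual.D (MvPolynomial (Fin N) R) ⥤ Dual.D B}

/-- One degree, flat over the base, gives Cohen–Macaulay fibres of dimension `n`. -/
theorem cm_of_concentrated_flat (hψ : Function.Surjective ψ) (adj : DRing.restrictD ψ.toRingHom ⊣ Rψ)
    (hz : ∀ i : ℤ, i ≠ -(n : ℤ) → Subsingleton (Dual.HD B (Dual2.shriekVia N Rψ (Dual.inD R R)) i))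
    (hf : RelPerfLib.RFlat R ((hH B (-(n : ℤ))).obj (Dual2.shriekVia N Rψ (Dual.inD R R))))
    (k : Type u) [Field k] [Algebra R k] :
    LocCoh.IsCohenMacaulayRing (k ⊗[R] B) ∧
      ∀ q : PrimeSpectrum (k ⊗[R] B), q.asIdeal ∈ minimalPrimes (k ⊗[R] B) →
        ringKrullDim (k ⊗[R] B ⧸ q.asIdeal) = (n : WithBot ℕ∞) := by
  let C := k ⊗[R] B
  haveI : Algebra.FiniteType R B := Algebra.FiniteType.of_surjective ψ hψ
  haveI := DRingLib.hasLBaseChange (Algebra.TensorProduct.includeRight : B →ₐ[R] k ⊗[R] B).toRingHom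
  haveI : DRing.HasLBaseChange (algebraMap k (MvPolynomial (Fin N) k)) := DRingLib.hasLBaseChange _
  haveI : IsNoetherianRing C := Algebra.FiniteType.isNoetherianRing k _
  obtain ⟨ψ', hψ', Rψ', adj', ⟨eω⟩⟩ := exists_fibre_shriekVia R B N ψ hψ adj k
  have hω : Dual.IsDualizing C (Dual2.shriekVia N Rψ' (Dual.inD k k)) :=
    isDualizing_of_iso eω (ShriekRingLib.isDualizing_fibre R B N ψ hψ adj k)
  have hone : ∀ (Q : PrimeSpectrum C) (i : ℤ),
      Nontrivial (LocalizedModule Q.asIdeal.primeCompl (Dual.HD C (Dual2.shriekVia N Rψ' (Dual.inD k k)) i)) →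
        i = -(n : ℤ) := fun Q i h => by
    by_contra hi
    haveI := subsingleton_lbase _ _ hz hf k i hi
    haveI : Subsingleton (Dual.HD C (Dual2.shriekVia N Rψ' (Dual.inD k k)) i) :=
      ((hH C i).mapIso eω).symm.toLinearEquiv.toEquiv.subsingleton
    exact not_subsingleton_iff_nontrivial.2 h inferInstance
  refine ⟨{ isCohenMacaulayLocalRing_localization := fun Q hQ => ?_ }, fun q hq => ?_⟩
  · refine (isCM_localRing_iff (⟨Q, hQ⟩ : PrimeSpectrum C)).2
      ((isCM_localized_iff hω ⟨Q, hQ⟩ C (mem_support_ring _)).2 fun i j hi hj => ?_)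
    exact (hone ⟨Q, hQ⟩ i ((nontrivial_localized_iff (extHL _ _)).2 hi)).trans
      (hone ⟨Q, hQ⟩ j ((nontrivial_localized_iff (extHL _ _)).2 hj)).symm
  · have hd : deg hω q = -(n : ℤ) := hone q _ ((nontrivial_HD_minimal_iff hω q hq _).2 rfl)
    have hlt : ringKrullDim (C ⧸ q.asIdeal) < ⊤ :=
      lt_of_le_of_lt (ringKrullDim_quotient_le _) (DualCxLib.ringKrullDim_lt_top hω)
    haveI : Nontrivial (C ⧸ q.asIdeal) := Ideal.Quotient.nontrivial_iff.2 q.isPrime.ne_top
    obtain ⟨d, hdd⟩ : ∃ d : ℕ, ringKrullDim (C ⧸ q.asIdeal) = (d : WithBot ℕ∞) := by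
      obtain ⟨m, hm⟩ := WithBot.ne_bot_iff_exists.1 (show ringKrullDim (C ⧸ q.asIdeal) ≠ ⊥ from fun h => absurd (h ▸ ringKrullDim_nonneg_of_nontrivial (R := C ⧸ q.asIdeal)) (by simp))
      rw [← hm] at hlt
      obtain ⟨d, rfl⟩ := WithTop.ne_top_iff_exists.1 (ne_of_lt (WithBot.coe_lt_coe.1 hlt))
      exact ⟨d, hm.symm⟩
    rw [deg_eq_neg_of_dim hω
      (fun M hM => deg_maximal_shriekVia k C N ψ' hψ' adj' (ShriekRingLib.isDualizing_field k) hω M hM) q d hdd] at hd
    rw [hdd]
    exact_mod_cast (by omega : d = n)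

end ShriekAffLib
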