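import Groth.Agent.ShriekAffLib.ExtBridge
import Groth.Agent.RelPerfLib.Basic

/-!
# Conditions on `Ext` modules as conditions on the upper shriek
-/

set_option autoImplicit false
set_option linter.style.haveILetI false
set_option linter.unusedSectionVars false
set_option maxHeartbeats 1000000
set_option synthInstance.maxHeartbeats 200000

noncomputable section

universe u

open CategoryTheory CategoryTheory.Limits
open Groth.Agent
open DTenLib.Point (hH sg)

attribute [local instance] HasDerivedCategory.standard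

namespace ShriekAffLib

variable (A : Type u) [CommRing A] [IsNoetherianRing A] (N n : ℕ) (I : Ideal (MvPolynomial (Fin N) A))
  [Module.Flat A (MvPolynomial (Fin N) A ⧸ I)]
  [DRing.HasLBaseChange (algebraMap A (MvPolynomial (Fin N) A))]
  {Rψ : Dual.D (MvPolynomial (Fin N) A) ⥤ Dual.D (MvPolynomial (Fin N) A ⧸ I)}

local notation "P" => MvPolynomial (Fin N) A
local notation "B" => MvPolynomial (Fin N) A ⧸ I

/-- The `Ext` module in one degree over the base. -/
theorem exists_ext_linearEquiv (hnN : n ≤ N) (adj : DRing.restrictD (Ideal.Quotient.mkₐ A I).toRingHom ⊣ Rψ) :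
    Nonempty (RestrictScalars A P (Abelian.Ext (ModuleCat.of P B) (ModuleCat.of P P) (N - n)) ≃ₗ[A]
      (ModuleCat.restrictScalars.{u} (algebraMap A B)).obj
        ((hH B (-(n : ℤ))).obj (Dual2.shriekVia N Rψ (Dual.inD A A)))) := by
  have h0 := exists_ext_equiv A N I adj (N - n)
  have h : (((N - n : ℕ) : ℤ) - N) = -(n : ℤ) := by omega
  rw [h] at h0
  obtain ⟨E, hE⟩ := h0
  let E' : RestrictScalars A P (Abelian.Ext (ModuleCat.of P B) (ModuleCat.of P P) (N - n)) ≃+
      (ModuleCat.restrictScalars.{u} (algebraMap A B)).obj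
        ((hH B (-(n : ℤ))).obj (Dual2.shriekVia N Rψ (Dual.inD A A))) :=
    (RestrictScalars.addEquiv A P _).trans E
  exact ⟨E'.toLinearEquiv fun r x => by
    show E (RestrictScalars.addEquiv A P _ (r • x)) = algebraMap A B r •
      (E (RestrictScalars.addEquiv A P _ x) : Dual.HD B (Dual2.shriekVia N Rψ (Dual.inD A A)) (-(n : ℤ)))
    rw [RestrictScalars.addEquiv_map_smul, hE]
    rfl⟩

/-- Vanishing and flatness of `Ext` in terms of the upper shriek. -/
theorem ext_conditions_iff (hnN : n ≤ N) (adj : DRing.restrictD (Ideal.Quotient.mkₐ A I).toRingHom ⊣ Rψ) :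
    ((∀ j : ℕ, j ≠ N - n → Subsingleton (Abelian.Ext (ModuleCat.of P B) (ModuleCat.of P P) j)) ∧
      Module.Flat A (RestrictScalars A P (Abelian.Ext (ModuleCat.of P B) (ModuleCat.of P P) (N - n)))) ↔
    ((∀ i : ℤ, i ≠ -(n : ℤ) → Subsingleton (Dual.HD B (Dual2.shriekVia N Rψ (Dual.inD A A)) i)) ∧
      RelPerfLib.RFlat A ((hH B (-(n : ℤ))).obj (Dual2.shriekVia N Rψ (Dual.inD A A)))) := by
  obtain ⟨ℓ⟩ := exists_ext_linearEquiv A N n I hnN adj
  refine ⟨fun h => ⟨fun i hi => ?_, ?_⟩, fun h => ⟨fun j hj => ?_, ?_⟩⟩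
  · by_cases hlow : i < -(N : ℤ)
    · exact subsingleton_shriek_below A N I adj i hlow
    · obtain ⟨j, rfl⟩ : ∃ j : ℕ, (j : ℤ) - N = i := ⟨(i + N).toNat, by omega⟩
      obtain ⟨E, -⟩ := exists_ext_equiv A N I adj j
      haveI := h.1 j (by omega)
      exact E.symm.toEquiv.subsingleton
  · haveI := h.2
    exact Module.Flat.of_linearEquiv ℓ.symm
  · obtain ⟨E, -⟩ := exists_ext_equiv A N I adj j
    haveI := h.1 ((j : ℤ) - N) (by omega)
    exact E.toEquiv.subsingleton
  · haveI : Module.Flat A ((ModuleCat.restrictScalars.{u} (algebraMap A B)).obj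
      ((hH B (-(n : ℤ))).obj (Dual2.shriekVia N Rψ (Dual.inD A A)))) := h.2
    exact Module.Flat.of_linearEquiv ℓ

end ShriekAffLib
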