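import Groth.Agent.DualCxLib.SchGor
import Groth.Agent.DualBCLib.GorFibre
import Groth.Agent.ShriekRingLib.GorFibres
import Groth.Agent.InvCritLib.Basic
import Mathlib.RingTheory.LocalProperties.Projective

/-!
# A single invertible cohomology module means locally a shift of the ring
-/

set_option autoImplicit false
set_option linter.style.haveILetI false
set_option linter.unusedSectionVars false
set_option maxHeartbeats 1000000
set_option synthInstance.maxHeartbeats 200000

noncomputable section

universe u

open CategoryTheory CategoryTheory.Limits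
open Groth.Agent Groth.Agent.DualCxLib
open DTenLib.Point (hH sg)

attribute [local instance] HasDerivedCategory.standard

namespace ShriekAffLib

open ShriekRingLib TorIndBCLib

variable {B : Type u} [CommRing B] [IsNoetherianRing B] (ω : Dual.D B) (e : ℤ)
  [hL : ∀ f : B, DRing.HasLBaseChange (algebraMap B (Localization.Away f))]

/-- A module in one degree which is invertible is locally a shift of the ring. -/
theorem exists_shift_of_invertible (hz : ∀ i, i ≠ e → Subsingleton (Dual.HD B ω i))
    [Module.Invertible B (Dual.HD B ω e)] (q : PrimeSpectrum B) :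
    ∃ (f : B) (_ : f ∉ q.asIdeal) (m : ℤ),
      Nonempty ((DRing.LBaseChange (algebraMap B (Localization.Away f))).obj ω ≅
        (Dual.inD (Localization.Away f) (Localization.Away f))⟦m⟧) := by
  obtain ⟨s, hs, hfree⟩ := Module.Invertible.exists_finset_free_localization B (Dual.HD B ω e)
  obtain ⟨t, ht, htq⟩ : ∃ t ∈ s, t ∉ q.asIdeal := by
    by_contra! h
    exact q.isPrime.ne_top (top_le_iff.1 (hs ▸ Ideal.span_le.2 fun x hx => h x hx))
  haveI := hfree t ht
  let L := Localization.Away t
  obtain ⟨q₀⟩ : Nonempty (LocalizedModule.Away t (Dual.HD B ω e) ≃ₗ[L] L) :=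
    Module.Invertible.free_iff_linearEquiv.1 inferInstance
  obtain ⟨Z, η, hu, hl⟩ := DualBCLib.exists_loc_any (L := L) (Submonoid.powers t) ω
  obtain ⟨η₁, hη₁⟩ := exists_univ_base (algebraMap B L) ω
  obtain ⟨c, -⟩ := exists_iso_univ hη₁ hu
  have hZ : Nonempty (Z ≅ (Dual.inD L L)⟦-e⟧) := by
    refine nonempty_iso_inD_shift e (fun i hi => ?_) ?_
    · exact ModuleCat.subsingleton_of_isZero (not_tor_HD (Submonoid.powers t) hl i fun x =>
        haveI := hz i hi
        ⟨1, Submonoid.one_mem _, Subsingleton.elim _ _⟩)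
    · let ee := (DRingLib.exists_homology_iso_mapDerived (ModuleCat.restrictScalars.{u} (algebraMap B L)) Z e).some
      letI : Module B (Dual.HD L Z e) := Module.compHom _ (algebraMap B L)
      haveI : IsScalarTower B L (Dual.HD L Z e) := IsScalarTower.of_algebraMap_smul fun _ _ => rfl
      let e' : (hH B e).obj ((DRing.restrictD (algebraMap B L)).obj Z) ≃ₗ[B] Dual.HD L Z e :=
        ee.toLinearEquiv
      haveI := hl e
      haveI : IsLocalizedModule (Submonoid.powers t) (e'.toLinearMap.comp ((hH B e).map η).hom) :=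
        IsLocalizedModule.of_linearEquiv _ _ e'
      exact ((IsLocalizedModule.iso (Submonoid.powers t)
        (e'.toLinearMap.comp ((hH B e).map η).hom)).extendScalarsOfIsLocalization (Submonoid.powers t) L).symm.trans q₀
  obtain ⟨eZ⟩ := hZ
  exact ⟨t, htq, -e, ⟨c ≪≫ eZ⟩⟩

/-- A module in one degree which is locally a shift of the ring is invertible. -/
theorem invertible_of_shift (hz : ∀ i, i ≠ e → Subsingleton (Dual.HD B ω i))
    (hfin : Module.Finite B (Dual.HD B ω e))
    (h : ∀ q : PrimeSpectrum B, ∃ (f : B) (_ : f ∉ q.asIdeal) (m : ℤ),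
      Nonempty ((DRing.LBaseChange (algebraMap B (Localization.Away f))).obj ω ≅
        (Dual.inD (Localization.Away f) (Localization.Away f))⟦m⟧)) :
    Module.Invertible B (Dual.HD B ω e) := by
  have hloc : ∀ q : PrimeSpectrum B, Nonempty (LocalizedModule q.asIdeal.primeCompl (Dual.HD B ω e)
      ≃ₗ[Localization.AtPrime q.asIdeal] Localization.AtPrime q.asIdeal) := fun q => by
    obtain ⟨f, hf, m, ⟨ef⟩⟩ := h q
    let S := Localization.AtPrime q.asIdeal
    let L := Localization.Away f
    obtain ⟨η₁, hη₁⟩ := exists_univ_base (algebraMap B L) ω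
    let ρ : L →+* S := IsLocalization.Away.lift f
      (IsLocalization.map_units S (⟨f, hf⟩ : q.asIdeal.primeCompl))
    obtain ⟨Zs, ηs, ηs', hηs, hηs'⟩ := exists_univ_comp_iso (θ := algebraMap B S)
      (IsLocalization.Away.lift_comp f (IsLocalization.map_units S (⟨f, hf⟩ : q.asIdeal.primeCompl))) hη₁
    obtain ⟨es⟩ := nonempty_univ_shift_iso hηs' m ef
    obtain ⟨Y, ηY, huY, hlY⟩ := DualBCLib.exists_loc_any (L := S) q.asIdeal.primeCompl ω
    obtain ⟨c, -⟩ := exists_iso_univ huY hηs
    let d : ∀ i, Dual.HD S Y i ≃ₗ[S] (hH S (m + i)).obj (Dual.inD S S) := fun i =>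
      ((hH S i).mapIso (c ≪≫ es) ≪≫ hHShift (Dual.inD S S) m i (m + i) rfl).toLinearEquiv
    have hme : m + e = 0 := by
      by_contra hne
      have h0 : Subsingleton (Dual.HD S Y (-m)) := by
        obtain ⟨ℓ⟩ := nonempty_HD_loc q hlY (-m)
        haveI := hz (-m) (by omega)
        exact ℓ.symm.toEquiv.subsingleton
      have h1 := (d (-m)).symm.toEquiv.subsingleton
      rw [add_neg_cancel] at h1
      exact not_subsingleton S (haveI := h1
        (DTenLib.Point.sgH (ModuleCat.of S S) 0).toLinearEquiv.symm.toEquiv.subsingleton)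
    obtain ⟨ℓ⟩ := nonempty_HD_loc q hlY e
    have d' := d e
    rw [hme] at d'
    exact ⟨ℓ.trans (d'.trans (DTenLib.Point.sgH (ModuleCat.of S S) 0).toLinearEquiv)⟩
  haveI := hfin
  haveI : Module.FinitePresentation B (Dual.HD B ω e) := Module.finitePresentation_of_finite B _
  haveI : Module.Projective B (Dual.HD B ω e) := Module.projective_of_localization_maximal fun I hI => by
    obtain ⟨ℓ⟩ := hloc ⟨I, hI.isPrime⟩
    exact Module.Projective.of_equiv ℓ.symm
  refine InvCritLib.invertible_of_rankAtStalk_one fun q => ?_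
  obtain ⟨ℓ⟩ := hloc q
  show Module.finrank _ _ = 1
  rw [ℓ.finrank_eq, Module.finrank_self]

end ShriekAffLib
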