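import Groth.Agent.DualCxLib.Sch
import Groth.Agent.RefHullLib.BigOpen
import Groth.Agent.StalkDualLib.Stalk
import Groth.Agent.ShriekRingLib.DepthHom

/-!
# Stalks of cohomology on affine charts, with their module structures
-/

set_option autoImplicit false
set_option linter.style.haveILetI false
set_option linter.unusedSectionVars false
set_option backward.isDefEq.respectTransparency false
set_option backward.isDefEq.respectTransparency.types false
set_option maxHeartbeats 1000000

noncomputable section

universe u

open CategoryTheory CategoryTheory.Limits AlgebraicGeometry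
open Groth.Agent

attribute [local instance] HasDerivedCategory.standard

namespace ShriekAffLib

/-- Serre's condition on any model of a localization. -/
theorem hasSk_of_model {A : Type u} [CommRing A] [IsNoetherianRing A] (U : Submonoid A) (S : Type u) [CommRing S]
    [Algebra A S] [IsLocalization U S] {M N : Type u}
    [AddCommGroup M] [Module A M] [Module.Finite A M] [AddCommGroup N] [Module A N] [Module S N] [IsScalarTower A S N]
    (f : M →ₗ[A] N) [IsLocalizedModule U f] (k : ℕ)
    (h : ∀ q : PrimeSpectrum A, Disjoint (U : Set A) (q.asIdeal : Set A) →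
      min (k : WithBot ℕ∞) (ringKrullDim (Localization.AtPrime q.asIdeal)) ≤
        ((LocCoh.depth (Localization.AtPrime q.asIdeal) (LocalizedModule q.asIdeal.primeCompl M) : ℕ∞) : WithBot ℕ∞)) :
    LocCoh.HasSk k S N := by
  intro P _
  let T := Localization.AtPrime P
  let N' := LocalizedModule P.primeCompl N
  haveI : IsLocalization.AtPrime T (P.comap (algebraMap A S)) :=
    IsLocalization.isLocalization_isLocalization_atPrime_isLocalization U T P
  obtain ⟨hP, hdis⟩ := (IsLocalization.isPrime_iff_isPrime_disjoint U S P).1 inferInstance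
  let q : PrimeSpectrum A := ⟨P.comap (algebraMap A S), hP⟩
  haveI : IsLocalization.AtPrime T q.asIdeal := ‹IsLocalization.AtPrime T (P.comap (algebraMap A S))›
  let g : M →ₗ[A] N' := ((LocalizedModule.mkLinearMap P.primeCompl N).restrictScalars A).comp f
  haveI : IsLocalizedModule q.asIdeal.primeCompl g := by
    rw [isLocalizedModule_iff_isBaseChange q.asIdeal.primeCompl T g]
    exact ((isLocalizedModule_iff_isBaseChange U S _).1 inferInstance).comp
      ((isLocalizedModule_iff_isBaseChange P.primeCompl T _).1 inferInstance)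
  haveI : IsNoetherianRing T := IsLocalization.isNoetherianRing q.asIdeal.primeCompl _ inferInstance
  refine le_trans (min_le_min le_rfl ((Module.supportDim_le_ringKrullDim T N').trans (le_of_eq
    (ringKrullDim_eq_of_ringEquiv
      (IsLocalization.algEquiv q.asIdeal.primeCompl T (Localization.AtPrime q.asIdeal)).toRingEquiv))))
    ((h q hdis).trans (le_of_eq ?_))
  congr 1
  refine ENat.eq_of_forall_natCast_le_iff fun n => ?_
  exact (LocSuppLib.le_depth_iff_localization q.asIdeal g n).symm

variable {X : Scheme.{u}}
  [∀ (U : Scheme.{u}) (j : U ⟶ X) [IsOpenImmersion j], PreservesFiniteLimits (Scheme.Modules.restrictFunctor j)]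
  [∀ (R : CommRingCat.{u}), PreservesFiniteLimits (tilde.functor R)]
  {A : Type u} [CommRing A] [IsNoetherianRing A] (j : Spec (CommRingCat.of A) ⟶ X) [IsOpenImmersion j]

/-- Serre's condition for the stalk of cohomology at a point of a chart. -/
theorem hasSk_stalkHD {K : DCoh.D X} {ω : Dual.D A}
    (e : (DCoh.restrictD j).obj K ≅ (DCoh.tildeD (CommRingCat.of A)).obj ω) (P : PrimeSpectrum A) (i : ℤ)
    [Module.Finite A (Dual.HD A ω i)] (k : ℕ)
    (h : ∀ q : PrimeSpectrum A, q.asIdeal ≤ P.asIdeal →
      min (k : WithBot ℕ∞) (ringKrullDim (Localization.AtPrime q.asIdeal)) ≤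
        ((LocCoh.depth (Localization.AtPrime q.asIdeal)
          (LocalizedModule q.asIdeal.primeCompl (Dual.HD A ω i)) : ℕ∞) : WithBot ℕ∞)) :
    LocCoh.HasSk k (X.presheaf.stalk (j P)) ((DCoh.HD K i).presheaf.stalk (j P)) := by
  haveI : (tilde.functor (CommRingCat.of A)).Additive :=
    instAdditiveModuleCatCarrierModulesSpecOfFunctor (R := CommRingCat.of A)
  haveI : PreservesFiniteColimits (tilde.functor (CommRingCat.of A)) :=
    haveI : PreservesColimitsOfSize.{0, 0} (tilde.functor (CommRingCat.of A)) :=
      (tilde.adjunction (R := CommRingCat.of A)).leftAdjoint_preservesColimits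
    PreservesColimitsOfSize.preservesFiniteColimits _
  let M : ModuleCat.{u} (CommRingCat.of A) := ModuleCat.of (CommRingCat.of A) (Dual.HD A ω i)
  let α : (Scheme.Modules.restrictFunctor j).obj (DCoh.HD K i) ≅ tilde M :=
    ((DerLib.ExactHomology.homologyIso (Scheme.Modules.restrictFunctor j) i).app K).symm ≪≫
      (DerivedCategory.homologyFunctor _ i).mapIso e ≪≫
      (DerLib.ExactHomology.homologyIso (A := ModuleCat.{u} (CommRingCat.of A))
        (tilde.functor (CommRingCat.of A)) i).app ω
  obtain ⟨σ, θ, hθ⟩ := RefHullLib.exists_restrict_stalk j (DCoh.HD K i) P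
  let O := StalkDualLib.Osp (CommRingCat.of A) P
  letI : Algebra A O := StalkDualLib.algebraOsp (CommRingCat.of A) P
  haveI : IsLocalization P.asIdeal.primeCompl O := StalkDualLib.isLocalization_Osp (CommRingCat.of A) P
  let l := ((DerSch.stalkFunctor (Spec (CommRingCat.of A)) P).mapIso α).symm.toLinearEquiv
  let S := (X.presheaf.stalk (j P) : Type u)
  let N := ((DCoh.HD K i).presheaf.stalk (j P) : Type u)
  letI : Algebra A S := (σ.toRingHom.comp (algebraMap A O)).toAlgebra
  let eσ : O ≃ₐ[A] S := AlgEquiv.ofRingEquiv (f := σ) fun _ => rfl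
  haveI : IsLocalization P.asIdeal.primeCompl S := IsLocalization.isLocalization_of_algEquiv _ eσ
  letI : Module A N := Module.compHom N (algebraMap A S)
  haveI : IsScalarTower A S N := IsScalarTower.of_algebraMap_smul fun _ _ => rfl
  let T := (((tilde.functor (CommRingCat.of A) ⋙ DerSch.stalkFunctor (Spec (CommRingCat.of A)) P) ⋙
    ModuleCat.restrictScalars.{u} (algebraMap A O)).obj M : Type u)
  let t₀ : Dual.HD A ω i →ₗ[A] T := ((StalkDualLib.μ (CommRingCat.of A) P).app M).hom
  haveI : IsLocalizedModule P.asIdeal.primeCompl t₀ := StalkDualLib.isLocalizedModule_μ (CommRingCat.of A) P M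
  let g : T ≃ₗ[A] N :=
    { l.toAddEquiv.trans θ with
      map_smul' := fun r x => by
        exact (congrArg θ (map_smul l (algebraMap A O r) _)).trans (hθ _ _) }
  let f : Dual.HD A ω i →ₗ[A] N := g.toLinearMap.comp t₀
  haveI : IsLocalizedModule P.asIdeal.primeCompl f := IsLocalizedModule.of_linearEquiv P.asIdeal.primeCompl t₀ g
  exact hasSk_of_model P.asIdeal.primeCompl S f k fun q hq => h q fun x hx => by
    by_contra hxP
    exact Set.disjoint_left.1 hq hxP hx

end ShriekAffLib
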