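import Groth.Agent.ShriekAffLib.FibreChart
import Groth.Agent.RelFlatLib.Affine
import Groth.Agent.TildePCLib.Main
import Groth.Agent.DRingLib.PCohMore

/-!
# The upper shriek of an affine flat map with Cohen–Macaulay fibres
-/

set_option autoImplicit false
set_option linter.style.haveILetI false
set_option linter.unusedSectionVars false
set_option backward.isDefEq.respectTransparency false
set_option backward.isDefEq.respectTransparency.types false
set_option maxHeartbeats 1000000
set_option synthInstance.maxHeartbeats 200000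

noncomputable section

universe u

open CategoryTheory CategoryTheory.Limits AlgebraicGeometry
open Groth.Agent Groth.Agent.DualCxLib
open scoped TensorProduct

attribute [local instance] HasDerivedCategory.standard

namespace ShriekAffLib

variable {R B : Type u} [CommRing R] [CommRing B] [Algebra R B]

/-- The fibre of an affine morphism with its chart. -/
theorem exists_affine_fibre (p : PrimeSpectrum R) (M : Dual.D B)
    [DRing.HasLBaseChange
      (Algebra.TensorProduct.includeRight : B →ₐ[R] p.asIdeal.ResidueField ⊗[R] B).toRingHom]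
    [DCoh.HasLpull ((Spec.map (CommRingCat.ofHom (algebraMap R B))).fiberι p)]
    [∀ (U V : Scheme.{u}) (j : U ⟶ V) [IsOpenImmersion j], PreservesFiniteLimits (Scheme.Modules.restrictFunctor j)]
    [∀ (S : CommRingCat.{u}), PreservesFiniteLimits (tilde.functor S)] :
    ∃ (ε : Spec (CommRingCat.of (p.asIdeal.ResidueField ⊗[R] B)) ⟶ (Spec.map (CommRingCat.ofHom (algebraMap R B))).fiber p)
      (_ : IsOpenImmersion ε),
      ε ≫ (Spec.map (CommRingCat.ofHom (algebraMap R B))).fiberι p = Spec.map (CommRingCat.ofHom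
        (Algebra.TensorProduct.includeRight : B →ₐ[R] p.asIdeal.ResidueField ⊗[R] B).toRingHom) ∧
      (∀ v, v ∈ Set.range ε) ∧
      Nonempty ((DCoh.restrictD ε).obj ((DCoh.Lpull ((Spec.map (CommRingCat.ofHom (algebraMap R B))).fiberι p)).obj
          ((DCoh.tildeD (CommRingCat.of B)).obj M)) ≅
        (DCoh.tildeD (CommRingCat.of (p.asIdeal.ResidueField ⊗[R] B))).obj
          ((DRing.LBaseChange (Algebra.TensorProduct.includeRight :
            B →ₐ[R] p.asIdeal.ResidueField ⊗[R] B).toRingHom).obj M)) := by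
  let k := p.asIdeal.ResidueField
  let f := Spec.map (CommRingCat.ofHom (algebraMap R B))
  let φ := (Algebra.TensorProduct.includeRight : B →ₐ[R] k ⊗[R] B).toRingHom
  let g := Spec.map (CommRingCat.ofHom φ)
  obtain ⟨σ, hσi, hσ⟩ := WeilRes.isIso_comp_residue (𝟙 (Spec (CommRingCat.of R))) p
  haveI := hσi
  obtain ⟨ε, hε, hει, -, hrange⟩ := WeilRes.exists_fibreChart f (𝟙 (Spec (CommRingCat.of R)))
    (𝟙 (Spec (CommRingCat.of B))) (by simp [f]) k p σ hσ
  haveI := hε
  rw [Category.comp_id] at hει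
  refine ⟨ε, hε, hει, fun v => hrange v ⟨f.fiberι p v, rfl⟩, ?_⟩
  haveI := KFlatLib.hasLpull ε
  haveI := KFlatLib.hasLpull g
  haveI := KFlatLib.hasLpull (ε ≫ f.fiberι p)
  haveI := DCohRestrLib.hasRpush ε
  obtain ⟨c₁⟩ := KFlatLib.lpull_comp ε (f.fiberι p)
  obtain ⟨c₃⟩ := ShriekLib.nonempty_lpull_congrNat (show ε ≫ f.fiberι p = g from hει)
  obtain ⟨t⟩ := LpullTildeLib.nonempty_iso φ
  exact ⟨((DualFMLib.lpullRestrIso ε).symm.app _) ≪≫ (c₁ ≪≫ c₃).app _ ≪≫ (t.symm.app M)⟩

/-- Localizations of a Cohen–Macaulay ring have a dualizing complex in one degree. -/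
theorem existsUnique_degree_of_cm {C : Type u} [CommRing C] [IsNoetherianRing C] {ω : Dual.D C}
    (hω : Dual.IsDualizing C ω) (Q : PrimeSpectrum C)
    (h : LocCoh.IsCohenMacaulayLocalRing (Localization.AtPrime Q.asIdeal)) :
    ∃! i : ℤ, Nontrivial (LocalizedModule Q.asIdeal.primeCompl (Dual.HD C ω i)) := by
  rw [isCM_localRing_iff, isCM_localized_iff hω Q C (mem_support_ring Q)] at h
  obtain ⟨q, -, -, hne⟩ := exists_minimal_deg hω Q
  exact ⟨_, hne, fun i hi => h _ _ ((nontrivial_localized_iff (extHL ω _)).1 hi)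
    ((nontrivial_localized_iff (extHL ω _)).1 hne)⟩

variable [IsNoetherianRing R] [IsNoetherianRing B] [Module.Flat R B] (N n : ℕ)
  (ψ : MvPolynomial (Fin N) R →ₐ[R] B)
  [DRing.HasLBaseChange (algebraMap R (MvPolynomial (Fin N) R))]
  {Rψ : Dual.D (MvPolynomial (Fin N) R) ⥤ Dual.D B}

/-- Cohen–Macaulay fibres of dimension `n` give one degree, flat over the base. -/
theorem concentrated_flat (hψ : Function.Surjective ψ) (adj : DRing.restrictD ψ.toRingHom ⊣ Rψ)
    (hCM : ∀ p : PrimeSpectrum R, LocCoh.IsCohenMacaulayRing (p.asIdeal.ResidueField ⊗[R] B))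
    (hdim : ∀ (p : PrimeSpectrum R) (q : PrimeSpectrum (p.asIdeal.ResidueField ⊗[R] B)),
      q.asIdeal ∈ minimalPrimes (p.asIdeal.ResidueField ⊗[R] B) →
        ringKrullDim (p.asIdeal.ResidueField ⊗[R] B ⧸ q.asIdeal) = (n : WithBot ℕ∞)) :
    (∀ i : ℤ, i ≠ -(n : ℤ) → Subsingleton (Dual.HD B (Dual2.shriekVia N Rψ (Dual.inD R R)) i)) ∧
      RelPerfLib.RFlat R ((DTenLib.Point.hH B (-(n : ℤ))).obj (Dual2.shriekVia N Rψ (Dual.inD R R))) := by
  haveI : ∀ S : CommRingCat.{u}, PreservesFiniteLimits (tilde.functor S) :=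
    fun S => HensSchLib.tilde_preservesFiniteLimits S
  haveI : ∀ (U V : Scheme.{u}) (j : U ⟶ V) [IsOpenImmersion j],
      PreservesFiniteLimits (Scheme.Modules.restrictFunctor j) := fun U V j _ => inferInstance
  haveI : Algebra.FiniteType R B := Algebra.FiniteType.of_surjective ψ hψ
  let ω := Dual2.shriekVia N Rψ (Dual.inD R R)
  let f := Spec.map (CommRingCat.ofHom (algebraMap R B))
  let K := (DCoh.tildeD (CommRingCat.of B)).obj ω
  haveI : Flat f := HasRingHomProperty.Spec_iff.2 (RingHom.flat_algebraMap_iff.2 inferInstance)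
  haveI : LocallyOfFinitePresentation f := HasRingHomProperty.Spec_iff.2
    (RingHom.finitePresentation_algebraMap.2 (Algebra.FinitePresentation.of_finiteType.1 inferInstance))
  obtain ⟨lo, hi, hb, hfin⟩ := ShriekRingLib.finite_bounded_shriekVia R B N ψ hψ adj
  have hpc : ∀ m, DCoh.IsPseudoCoherentD m K := fun m => TildePCLib.isPC_tildeD
    (DRingLib.isPseudoCoherent_of_finite_noetherian
      (fun i h => haveI := hb i (Or.inr h); ModuleCat.isZero_of_subsingleton _) fun i _ => hfin i)
  let e : (DCoh.restrictD (𝟙 (Spec (CommRingCat.of B)))).obj K ≅ K := (TildePCLib.nonempty_resD_id K).some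
  have key : ∀ x : Spec (CommRingCat.of B),
      (∀ i : ℤ, i ≠ -(n : ℤ) → Subsingleton ((DCoh.HD K i).presheaf.stalk x)) ∧
        FlatMod.IsFlatOverAt f (DCoh.HD K (-(n : ℤ))) x := fun x => by
    let p : PrimeSpectrum R := f x
    let k := p.asIdeal.ResidueField
    let C := k ⊗[R] B
    let φ := (Algebra.TensorProduct.includeRight : B →ₐ[R] C).toRingHom
    haveI := DRingLib.hasLBaseChange φ
    haveI : DRing.HasLBaseChange (algebraMap k (MvPolynomial (Fin N) k)) := DRingLib.hasLBaseChange _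
    haveI : IsNoetherianRing C := Algebra.FiniteType.isNoetherianRing k _
    haveI := KFlatLib.hasLpull (f.fiberι p)
    obtain ⟨ε, hε, -, hr, ⟨eε⟩⟩ := exists_affine_fibre (B := B) p ω
    haveI := hε
    obtain ⟨ψ', hψ', Rψ', adj', ⟨eω⟩⟩ := exists_fibre_shriekVia R B N ψ hψ adj k
    have hω : Dual.IsDualizing C (Dual2.shriekVia N Rψ' (Dual.inD k k)) :=
      isDualizing_of_iso eω (ShriekRingLib.isDualizing_fibre R B N ψ hψ adj k)
    obtain ⟨v, hv⟩ : ∃ v, f.fiberι p v = x := (f.range_fiberι _).ge rfl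
    obtain ⟨Q, rfl⟩ := hr v
    let eC := eε ≪≫ (DCoh.tildeD (CommRingCat.of C)).mapIso eω
    refine hv ▸ stalk_concentrated f p (ε Q) K hpc _ fun i hi => ?_
    obtain ⟨d, hd, huniq⟩ := existsUnique_degree_of_cm hω Q
      ((hCM p).isCohenMacaulayLocalRing_localization Q.asIdeal)
    obtain ⟨q, hq, -, hne⟩ := exists_minimal_deg hω Q
    have hdeg : deg hω q = -(n : ℤ) := deg_eq_neg_of_dim hω
      (fun M hM => deg_maximal_shriekVia k C N ψ' hψ' adj' (ShriekRingLib.isDualizing_field k) hω M hM)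
      q n (hdim p q hq)
    refine not_nontrivial_iff_subsingleton.1 fun hnt => hi ?_
    rw [huniq i ((DualCxLib.stalkHD ε eC Q i).nontrivial_congr.1 hnt), ← huniq _ hne, hdeg]
  haveI : (tilde.functor (CommRingCat.of B)).Additive :=
    instAdditiveModuleCatCarrierModulesSpecOfFunctor (R := CommRingCat.of B)
  refine ⟨fun i hi => ?_, (RelFlatLib.isFlatOver_tildeObj_iff (R := R) _).1 fun x =>
    (RichLib.ModFlat.isFlatOverAt_iso f ((DerLib.ExactHomology.homologyIso (tilde.functor (CommRingCat.of B))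
      (-(n : ℤ))).app ω) x).1 (key x).2⟩
  have h0 : IsZero (DCoh.HD K i) :=
    (DCohRestrLib.isZero_iff_subsingleton_stalks _).2 fun x => (key x).1 i hi
  haveI : Subsingleton ((DTenLib.Point.hH B i).obj ω : Type u) := ModuleCat.subsingleton_of_isZero
    (RelFlatLib.isZero_of_tilde (h0.of_iso ((DerLib.ExactHomology.homologyIso (tilde.functor (CommRingCat.of B)) i).app ω).symm))
  assumption

end ShriekAffLib
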