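import Groth.Agent.RelFlatLib.FibreStalk

/-!
# A single cohomology degree on the closed fibre
-/

set_option autoImplicit false
set_option linter.style.haveILetI false
set_option linter.unusedSectionVars false
set_option backward.isDefEq.respectTransparency false
set_option backward.isDefEq.respectTransparency.types false
set_option maxHeartbeats 1000000

noncomputable section

universe u

open CategoryTheory CategoryTheory.Limits HomologicalComplex AlgebraicGeometry

attribute [local instance] HasDerivedCategory.standard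

namespace ShriekAffLib

open Groth.Agent Groth.Agent.RelFlatLib
open Groth.Agent.TwoTermLib.RelAmp (resCx)

/-- Exactness modulo the maximal ideal of the base gives exactness and a flat cokernel. -/
theorem exact_and_flat_of_mod {A B : Type u} [CommRing A] [IsLocalRing A] [CommRing B] [IsLocalRing B]
    [Algebra A B] [IsLocalHom (algebraMap A B)] [Module.Flat A B]
    (hS : CAlgX.IsEssFinitePresentation A B) (J : Ideal B)
    (hJ : J = (IsLocalRing.maximalIdeal A).map (algebraMap A B))
    {L M N : Type u} [AddCommGroup L] [Module B L] [Module.Finite B L]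
    [AddCommGroup M] [Module B M] [Module.Finite B M] [Module.Free B M] [Module A M] [IsScalarTower A B M]
    [AddCommGroup N] [Module B N] [Module.Finite B N] [Module.Free B N] [Module A N] [IsScalarTower A B N]
    (p : L →ₗ[B] M) (q : M →ₗ[B] N) (hpq : ∀ x, q (p x) = 0)
    (hex : ∀ z, q z ∈ J • (⊤ : Submodule B N) → z ∈ LinearMap.range p ⊔ J • (⊤ : Submodule B M)) :
    (∀ x, q x = 0 → x ∈ LinearMap.range p) ∧ Module.Flat A (N ⧸ LinearMap.range q) := by
  have hle : LinearMap.range p ≤ LinearMap.ker q := by
    rintro _ ⟨x, rfl⟩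
    exact hpq x
  let u : (M ⧸ LinearMap.range p) →ₗ[B] N := (LinearMap.range p).liftQ q hle
  haveI : Module.FinitePresentation B M := Module.finitePresentation_of_projective B M
  haveI : Module.FinitePresentation B (M ⧸ LinearMap.range p) :=
    Module.finitePresentation_of_surjective
    (LinearMap.range p).mkQ (Submodule.mkQ_surjective _) (by
      rw [Submodule.ker_mkQ, LinearMap.range_eq_map]
      exact Module.Finite.fg_top.map p)
  haveI : Module.FinitePresentation B N := Module.finitePresentation_of_projective B N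
  haveI : Module.Flat A N := Module.Flat.trans A B N
  have key : ∀ x, u x ∈ J • (⊤ : Submodule B N) → x ∈ J • (⊤ : Submodule B (M ⧸ LinearMap.range p)) :=
    fun x hx => by
      obtain ⟨z, rfl⟩ := Submodule.Quotient.mk_surjective _ x
      obtain ⟨y, hy, w, hw, rfl⟩ := Submodule.mem_sup.1 (hex z hx)
      rw [Submodule.Quotient.mk_add, (Submodule.Quotient.mk_eq_zero _).2 hy, zero_add]
      have := Submodule.mem_map_of_mem (f := (LinearMap.range p).mkQ) hw
      rw [Submodule.map_smul''] at this
      exact Submodule.smul_mono le_rfl le_top this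
  subst hJ
  obtain ⟨hinj, hflat⟩ := Groth.Agent.S2107.result hS u key
  refine ⟨fun x hx => (Submodule.Quotient.mk_eq_zero _).1 (hinj (hx.trans (map_zero u).symm)), ?_⟩
  rwa [show LinearMap.range u = LinearMap.range q from Submodule.range_liftQ _ _ _] at hflat

/-- The kernel between two flat cokernels is flat. -/
theorem flat_homology_of_cokernels {A B : Type u} [CommRing A] [CommRing B] [Algebra A B]
    (S : ShortComplex (ModuleCat.{u} B)) [Module A S.X₂] [IsScalarTower A B S.X₂]
    [Module A S.X₃] [IsScalarTower A B S.X₃] [Module.Flat A S.X₃]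
    (h₁ : Module.Flat A (S.X₂ ⧸ LinearMap.range S.f.hom)) (h₂ : Module.Flat A (S.X₃ ⧸ LinearMap.range S.g.hom)) :
    Module.Flat A (RestrictScalars A B S.homology) := by
  let q := S.g.hom
  have hle : LinearMap.range S.f.hom ≤ LinearMap.ker q := by
    rintro _ ⟨x, rfl⟩
    exact ConcreteCategory.congr_hom S.zero x
  let u : (S.X₂ ⧸ LinearMap.range S.f.hom) →ₗ[B] LinearMap.range q :=
    (LinearMap.range S.f.hom).liftQ q.rangeRestrict (by
      intro x hx
      exact LinearMap.mem_ker.2 (Subtype.ext (hle hx)))
  have hu : Function.Surjective u := fun ⟨_, x, rfl⟩ => ⟨Submodule.Quotient.mk x, rfl⟩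
  haveI : Module.Flat A (LinearMap.range q) :=
    TwoTermLib.KFlatTrunc.flat_of_exact ((LinearMap.range q).subtype.restrictScalars A)
      ((LinearMap.range q).mkQ.restrictScalars A) (Submodule.injective_subtype _)
      (fun x => by simp [LinearMap.mem_range]) (Submodule.mkQ_surjective _)
  haveI : Module.Flat A (LinearMap.ker u) :=
    TwoTermLib.KFlatTrunc.flat_of_exact ((LinearMap.ker u).subtype.restrictScalars A) (u.restrictScalars A)
      (Submodule.injective_subtype _) (fun x => by simp [LinearMap.mem_range]) hu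
  let π : LinearMap.ker q →ₗ[B] LinearMap.ker u :=
    ((LinearMap.range S.f.hom).mkQ ∘ₗ (LinearMap.ker q).subtype).codRestrict _ fun x =>
      LinearMap.mem_ker.2 (Subtype.ext (LinearMap.mem_ker.1 x.2))
  have hπ : Function.Surjective π := fun ⟨y, hy⟩ => by
    obtain ⟨x, rfl⟩ := Submodule.Quotient.mk_surjective _ y
    exact ⟨⟨x, congrArg Subtype.val (LinearMap.mem_ker.1 hy)⟩, rfl⟩
  have hkπ : LinearMap.range S.moduleCatToCycles = LinearMap.ker π := by
    ext x
    constructor
    · rintro ⟨w, rfl⟩
      exact LinearMap.mem_ker.2 (Subtype.ext ((Submodule.Quotient.mk_eq_zero _).2 ⟨w, rfl⟩))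
    · intro hx
      obtain ⟨w, hw⟩ := (Submodule.Quotient.mk_eq_zero _).1 (congrArg Subtype.val (LinearMap.mem_ker.1 hx))
      exact ⟨w, Subtype.ext hw⟩
  let e : S.homology ≃ₗ[B] LinearMap.ker u :=
    S.moduleCatHomologyIso.toLinearEquiv.trans
      ((Submodule.quotEquivOfEq _ _ hkπ).trans (π.quotKerEquivOfSurjective hπ))
  let eA : RestrictScalars A B S.homology ≃ₗ[A] LinearMap.ker u :=
    ((RestrictScalars.addEquiv A B S.homology).trans e.toAddEquiv).toLinearEquiv fun r x => by
      show e (RestrictScalars.addEquiv A B _ (r • x)) = r • e (RestrictScalars.addEquiv A B _ x)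
      rw [RestrictScalars.addEquiv_map_smul, map_smul, algebraMap_smul]
  exact Module.Flat.of_linearEquiv eA

variable {A B C : Type u} [CommRing A] [IsLocalRing A] [CommRing B] [CommRing C]
  (φ : A →+* B) (ψ : B →+* C) [IsLocalRing B] [IsLocalHom φ]

/-- If the closed fibre has cohomology in at most one degree then so does the complex, flat over the base. -/
theorem concentrated_of_fibre (hφ : φ.Flat)
    (hS : letI := φ.toAlgebra; CAlgX.IsEssFinitePresentation A B) (hs : Function.Surjective ψ)
    (hk : RingHom.ker ψ = (IsLocalRing.maximalIdeal A).map φ)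
    {P : CochainComplex (ModuleCat.{u} B) ℤ} (hP : DRing.IsKFlat B P)
    (hpc : ∀ m, DRing.IsPseudoCoherent B m (DerivedCategory.Q.obj P)) (n : ℤ)
    (h : ∀ i, i ≠ n → IsZero (((DRingLib.extCx ψ).obj P).homology i)) :
    (∀ i, i ≠ n → IsZero (P.homology i)) ∧
      Module.Flat A ((ModuleCat.restrictScalars.{u} φ).obj (P.homology n)) := by
  obtain ⟨E, b, hEb, hEf, ⟨eE⟩⟩ := DRingLib.isPseudoCoherent'_of_forall hpc
  haveI := fun i => (hEf i).1
  haveI := fun i => (hEf i).2
  haveI := DRingLib.isKProjective_of_free E b hEb (fun i => (hEf i).2)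
  obtain ⟨g, hg⟩ := DRingLib.exists_qis_of_iso E P eE
  have iH : ∀ i, IsIso (homologyMap g i) := fun i => (quasiIsoAt_iff_isIso_homologyMap _ _).mp (hg.quasiIsoAt i)
  have hC : ∀ i, i ≠ n → IsZero (((DRingLib.extCx ψ).obj E).homology i) := fun i hi => by
    haveI : QuasiIso ((DRingLib.extCx ψ).map g) :=
      KFlatLib.quasiIso_extend ψ (DRingLib.isKFlat_of_free E b hEb (fun i => (hEf i).2)) hP g
    have : IsIso (homologyMap ((DRingLib.extCx ψ).map g) i) :=
      (quasiIsoAt_iff_isIso_homologyMap _ _).mp (QuasiIso.quasiIsoAt i)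
    exact (h i hi).of_iso (asIso (homologyMap ((DRingLib.extCx ψ).map g) i))
  letI := φ.toAlgebra
  haveI : IsLocalHom (algebraMap A B) := ‹IsLocalHom φ›
  haveI : Module.Flat A B := hφ
  letI : ∀ M : ModuleCat.{u} B, Module A M := fun M => Module.compHom M φ
  haveI : ∀ M : ModuleCat.{u} B, IsScalarTower A B M := fun M =>
    IsScalarTower.of_algebraMap_smul fun _ _ => rfl
  have key : ∀ i, i ≠ n → (∀ x, (E.d i (i + 1)).hom x = 0 → x ∈ LinearMap.range (E.d (i - 1) i).hom) ∧
      Module.Flat A (E.X (i + 1) ⧸ LinearMap.range (E.d i (i + 1)).hom) := fun i hi =>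
    exact_and_flat_of_mod hS (RingHom.ker ψ) hk (E.d (i - 1) i).hom (E.d i (i + 1)).hom
      (fun x => congrArg (fun q => q.hom x) (E.d_comp_d (i - 1) i (i + 1))) (fibre_exact ψ E hs (hC i hi))
  refine ⟨fun i hi => ?_, ?_⟩
  · haveI := iH i
    refine IsZero.of_iso ?_ (asIso (homologyMap g i)).symm
    rw [← exactAt_iff_isZero_homology, exactAt_iff' E (i - 1) i (i + 1) (by simp) (by simp),
      ShortComplex.moduleCat_exact_iff]
    intro x hx
    exact LinearMap.mem_range.1 ((key i hi).1 x hx)
  · haveI : ∀ i, Module.Flat A (E.X i) := fun i => Module.Flat.trans A B (E.X i)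
    let S := E.sc' (n - 1) n (n + 1)
    letI : Module A S.X₂ := inferInstanceAs (Module A (E.X n))
    letI : Module A S.X₃ := inferInstanceAs (Module A (E.X (n + 1)))
    haveI : IsScalarTower A B S.X₂ := inferInstanceAs (IsScalarTower A B (E.X n))
    haveI : IsScalarTower A B S.X₃ := inferInstanceAs (IsScalarTower A B (E.X (n + 1)))
    haveI : Module.Flat A S.X₃ := inferInstanceAs (Module.Flat A (E.X (n + 1)))
    have h₁ : Module.Flat A (S.X₂ ⧸ LinearMap.range S.f.hom) := by
      have h0 := (key (n - 1) (by omega)).2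
      rw [sub_add_cancel] at h0
      exact h0
    have h₂ : Module.Flat A (S.X₃ ⧸ LinearMap.range S.g.hom) :=
      flat_coker_of_mod hS (RingHom.ker ψ) hk (E.d n (n + 1)).hom (E.d (n + 1) (n + 1 + 1)).hom
        (fun x => congrArg (fun q => q.hom x) (E.d_comp_d n (n + 1) (n + 1 + 1))) (by
          have h0 := fibre_exact ψ E hs (hC (n + 1) (by omega))
          rwa [add_sub_cancel_right] at h0)
    haveI := flat_homology_of_cokernels (A := A) S h₁ h₂
    haveI := iH n
    let e : S.homology ≅ P.homology n :=
      (ShortComplex.homologyMapIso (E.isoSc' (n - 1) n (n + 1) (by simp) (by simp))).symm ≪≫ asIso (homologyMap g n)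
    exact Module.Flat.of_linearEquiv (((RestrictScalars.addEquiv A B _).trans e.toLinearEquiv.toAddEquiv).toLinearEquiv
      fun r x => by
        show e.toLinearEquiv (RestrictScalars.addEquiv A B _ (r • x)) = φ r • e.toLinearEquiv (RestrictScalars.addEquiv A B _ x)
        rw [RestrictScalars.addEquiv_map_smul, map_smul]
        rfl : RestrictScalars A B S.homology ≃ₗ[A] (ModuleCat.restrictScalars.{u} φ).obj (P.homology n)).symm

end ShriekAffLib
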