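import Groth.Agent.TildeDerLib.Push
import Groth.Agent.KoszOrthLib.Affine
import Groth.Agent.HensSchLib.Flat
import Groth.Agent.ShriekLib.Basic
import Groth.Agent.DualCxLib.Chart2

/-!
# The right adjoint of direct image along a morphism of affine schemes
-/

set_option autoImplicit false
set_option linter.style.haveILetI false
set_option linter.unusedSectionVars false
set_option backward.isDefEq.respectTransparency false
set_option backward.isDefEq.respectTransparency.types false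
set_option maxHeartbeats 1000000

noncomputable section

universe u

open CategoryTheory CategoryTheory.Limits AlgebraicGeometry
open Groth.Agent

attribute [local instance] HasDerivedCategory.standard

namespace ShriekAffLib

variable [∀ (R : CommRingCat.{u}), PreservesFiniteLimits (tilde.functor R)]

/-- `D(R) ⥤ D_QCoh(Spec R)`. -/
abbrev tildeQ (R : CommRingCat.{u}) : Dual.D R ⥤ DCoh.DQCoh (Spec R) :=
  ObjectProperty.lift DCoh.IsQCohD (DCoh.tildeD R) fun K => (TildeDerLib.isQCohD_iff R _).2 ⟨K, ⟨Iso.refl _⟩⟩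

theorem isEquivalence_tildeQ (R : CommRingCat.{u}) : (tildeQ R).IsEquivalence := by
  haveI : (DCoh.tildeD R).Full := KoszOrthLib.full_tD (A := R)
  haveI : (DCoh.tildeD R).Faithful := KoszOrthLib.faithful_tD (A := R)
  haveI : (tildeQ R).Faithful := ⟨fun h => (DCoh.tildeD R).map_injective (congrArg (fun x => x.hom) h)⟩
  haveI : (tildeQ R).Full :=
    ⟨fun g => ⟨(DCoh.tildeD R).preimage g.hom, ObjectProperty.hom_ext _ ((DCoh.tildeD R).map_preimage g.hom)⟩⟩
  haveI : (tildeQ R).EssSurj := ⟨fun E => by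
    obtain ⟨M, ⟨e⟩⟩ := (TildeDerLib.isQCohD_iff R _).1 E.property
    exact ⟨M, ⟨(DCoh.IsQCohD (X := Spec R)).fullyFaithfulι.preimageIso e⟩⟩⟩
  exact {}

/-- Right adjoints of intertwined functors along equivalences agree. -/
theorem nonempty_rightAdjoint_conj {C C' D D' : Type*} [Category* C] [Category* C'] [Category* D] [Category* D']
    (T : C ⥤ D) [T.IsEquivalence] (T' : C' ⥤ D') [T'.IsEquivalence] {F : C ⥤ C'} {G : C' ⥤ C} {F' : D ⥤ D'}
    {G' : D' ⥤ D} (adj : F ⊣ G) (adj' : F' ⊣ G') (e : T ⋙ F' ≅ F ⋙ T') :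
    Nonempty (G ⋙ T ≅ T' ⋙ G') := by
  let ε := T.asEquivalence
  let ε' := T'.asEquivalence
  -- two right adjoints of `F ⋙ T'`
  let a₁ : F ⋙ T' ⊣ ε'.inverse ⋙ G := adj.comp ε'.toAdjunction
  let a₂ : F ⋙ T' ⊣ G' ⋙ ε.inverse := (ε.toAdjunction.comp adj').ofNatIsoLeft e
  let i : ε'.inverse ⋙ G ≅ G' ⋙ ε.inverse := a₁.rightAdjointUniq a₂
  exact ⟨(Functor.leftUnitor _).symm ≪≫
    Functor.isoWhiskerRight ε'.unitIso (G ⋙ T) ≪≫
    Functor.associator _ _ _ ≪≫
    Functor.isoWhiskerLeft T' ((Functor.associator _ _ _).symm ≪≫ Functor.isoWhiskerRight i T ≪≫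
      Functor.associator _ _ _ ≪≫ Functor.isoWhiskerLeft G' ε.counitIso ≪≫ Functor.rightUnitor _)⟩

/-- The right adjoint of `Rk_*` for affine schemes is the tilde of that of restriction of scalars. -/
theorem nonempty_rightAdjoint_spec {R S : CommRingCat.{u}} (φ : R ⟶ S) [DCoh.HasRpush (Spec.map φ)]
    (hk : DCoh.RpushPreservesQCoh (Spec.map φ)) (ak : DCoh.DQCoh (Spec R) ⥤ DCoh.DQCoh (Spec S))
    (adjk : DCoh.RpushQ (Spec.map φ) hk ⊣ ak) (G : Dual.D R ⥤ Dual.D S) (adj : DRing.restrictD φ.hom ⊣ G) :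
    Nonempty (G ⋙ tildeQ S ≅ tildeQ R ⋙ ak) := by
  haveI := isEquivalence_tildeQ R
  haveI := isEquivalence_tildeQ S
  obtain ⟨τ⟩ := TildeDerLib.nonempty_rpushTildeDIso φ
  let e : tildeQ S ⋙ DCoh.RpushQ (Spec.map φ) hk ≅ DRing.restrictD φ.hom ⋙ tildeQ R :=
    NatIso.ofComponents (fun M => (DCoh.IsQCohD (X := Spec R)).fullyFaithfulι.preimageIso (τ.app M))
      fun g => ObjectProperty.hom_ext _ (τ.hom.naturality g)
  exact nonempty_rightAdjoint_conj (tildeQ S) (tildeQ R) adj adjk e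

end ShriekAffLib
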