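import Groth.Agent.ShriekRingLib.FlatSelf
import Groth.Agent.ShriekRingLib.FlatRange
import Groth.Agent.FinDualLib.Finite
import Groth.Agent.DualCxLib.GorLoc
import Groth.Agent.DualCxLib.DimFnLocal
import Mathlib.Algebra.Homology.DerivedCategory.Ext.Linear

/-!
# `Ext` into a polynomial ring and the upper shriek
-/

set_option autoImplicit false
set_option linter.style.haveILetI false
set_option linter.unusedSectionVars false
set_option maxHeartbeats 1000000
set_option synthInstance.maxHeartbeats 200000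

noncomputable section

universe u

open CategoryTheory CategoryTheory.Limits
open Groth.Agent Groth.Agent.DualCxLib
open DTenLib.Point (hH sg)

attribute [local instance] HasDerivedCategory.standard

namespace ShriekAffLib

variable (A : Type u) [CommRing A] [IsNoetherianRing A] (N : ℕ) (I : Ideal (MvPolynomial (Fin N) A))
  [Module.Flat A (MvPolynomial (Fin N) A ⧸ I)]
  [DRing.HasLBaseChange (algebraMap A (MvPolynomial (Fin N) A))]
  {Rψ : Dual.D (MvPolynomial (Fin N) A) ⥤ Dual.D (MvPolynomial (Fin N) A ⧸ I)}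

/-- `Ext^j_P(P/I, P)` is the cohomology of the upper shriek in degree `j - N`. -/
theorem exists_ext_equiv (adj : DRing.restrictD (Ideal.Quotient.mkₐ A I).toRingHom ⊣ Rψ) (j : ℕ) :
    ∃ E : Abelian.Ext (ModuleCat.of (MvPolynomial (Fin N) A) (MvPolynomial (Fin N) A ⧸ I))
        (ModuleCat.of (MvPolynomial (Fin N) A) (MvPolynomial (Fin N) A)) j ≃+
      Dual.HD (MvPolynomial (Fin N) A ⧸ I) (Dual2.shriekVia N Rψ (Dual.inD A A)) ((j : ℤ) - N),
      ∀ (p : MvPolynomial (Fin N) A) x, E (p • x) = Ideal.Quotient.mk I p • E x := by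
  let P := MvPolynomial (Fin N) A
  let B := P ⧸ I
  obtain ⟨W, δ, hδ, ⟨e⟩⟩ :=
    ShriekRingLib.exists_coUniv_unit A B N (Ideal.Quotient.mkₐ A I) adj
  let ω₁ : Dual.D P := sg (ModuleCat.of P P) 0
  have hδ' : FinDualLib.IsCoUniv (algebraMap P B) (δ ≫ (ShriekRingLib.inDUnit P).inv) :=
    hδ.postcomp _ (ShriekRingLib.inDUnit P).symm
  obtain ⟨T, hT, hadd, hsmul⟩ := FinDualLib.exists_tr (Z := W) hδ' B (j : ℤ)
  let T' : Ext W (ModuleCat.of B B) (j : ℤ) ≃+ Ext (Dual.inD P P) (ModuleCat.of P B) (j : ℤ) :=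
    AddEquiv.mk' (Equiv.ofBijective T hT) hadd
  let a : Abelian.Ext (ModuleCat.of P B) (ModuleCat.of P P) j ≃ₗ[P]
      Ext (Dual.inD P P) (ModuleCat.of P B) (j : ℤ) :=
    Abelian.Ext.homLinearEquiv (R := P)
  let c : Ext W (ModuleCat.of B B) (j : ℤ) ≃ₗ[B] (hH B ((j : ℤ) - N)).obj (Dual2.shriekVia N Rψ (Dual.inD A A)) :=
    (extHL W (j : ℤ)).trans ((hH B ((j : ℤ) - N)).mapIso e ≪≫
      hHShift W (N : ℤ) ((j : ℤ) - N) j (by omega)).symm.toLinearEquiv
  refine ⟨(a.toAddEquiv.trans T'.symm).trans c.toAddEquiv, fun p x => ?_⟩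
  show c (T'.symm (a (p • x))) = _
  have h1 : T'.symm (p • a x) = Ideal.Quotient.mk I p • T'.symm (a x) := by
    apply T'.injective
    rw [T'.apply_symm_apply]
    exact ((hsmul p _).trans (congrArg (p • ·) (T'.apply_symm_apply (a x)))).symm
  rw [map_smul, h1, map_smul]
  rfl

/-- The upper shriek vanishes below degree `-N`. -/
theorem subsingleton_shriek_below (adj : DRing.restrictD (Ideal.Quotient.mkₐ A I).toRingHom ⊣ Rψ) (i : ℤ)
    (hi : i < -(N : ℤ)) :
    Subsingleton (Dual.HD (MvPolynomial (Fin N) A ⧸ I) (Dual2.shriekVia N Rψ (Dual.inD A A)) i) := by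
  let P := MvPolynomial (Fin N) A
  let B := P ⧸ I
  obtain ⟨W, δ, hδ, ⟨e⟩⟩ :=
    ShriekRingLib.exists_coUniv_unit A B N (Ideal.Quotient.mkₐ A I) adj
  have hδ' : FinDualLib.IsCoUniv (algebraMap P B) (δ ≫ (ShriekRingLib.inDUnit P).inv) :=
    hδ.postcomp _ (ShriekRingLib.inDUnit P).symm
  let j : ℤ := i + N
  haveI : Subsingleton (Ext (Dual.inD P P) (ModuleCat.of P B) j) := by
    refine subsingleton_of_forall_eq 0 fun f => ?_
    haveI : DerivedCategory.TStructure.t.IsGE ((sg (ModuleCat.of P P) 0)⟦j⟧) (-j) :=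
      DerivedCategory.TStructure.t.isGE_shift _ 0 j (-j) (add_neg_cancel j)
    exact DerivedCategory.TStructure.t.zero (f : sg (ModuleCat.of P B) 0 ⟶ (sg (ModuleCat.of P P) 0)⟦j⟧) 0 (-j)
      (by omega)
  haveI := FinDualLib.subsingleton_ext_of (Z := W) hδ' B j inferInstance
  exact ((extHL W j).trans ((hH B i).mapIso e ≪≫
    hHShift W (N : ℤ) i j (by omega)).symm.toLinearEquiv).symm.toEquiv.subsingleton

end ShriekAffLib
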