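import Groth.Agent.ShriekAffLib.Equiv
import Groth.Agent.ShriekLib.Smooth
import Groth.Agent.ShriekLib.Factor
import Groth.Agent.ShriekLib.Indep
import Groth.Agent.GenusZeroLib.PSmooth
import Groth.Agent.ShriekRingLib.FlatRange
import Groth.Agent.GrassLib.SchExtPow
import Groth.Agent.GrassLib.Free
import Groth.Agent.AVIndexLib.HodgeDim
import Groth.Agent.ExtPowLib.Sheaf
import Groth.Agent.S2157
import Groth.Agent.OmegaPnLib.Main
import Groth.Agent.KoszOrthLib.AmpleGen
import Groth.Agent.CohCmpLib.OmegaRank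
import Mathlib.RingTheory.Kaehler.Polynomial

/-!
# The upper shriek of the structure sheaf on affine charts
-/

set_option autoImplicit false
set_option linter.style.haveILetI false
set_option linter.unusedSectionVars false
set_option backward.isDefEq.respectTransparency false
set_option backward.isDefEq.respectTransparency.types false
set_option maxHeartbeats 1000000
set_option synthInstance.maxHeartbeats 200000

noncomputable section

universe u

open CategoryTheory CategoryTheory.Limits AlgebraicGeometry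
open Groth.Agent

attribute [local instance] HasDerivedCategory.standard

namespace ShriekAffLib

variable (n : ℕ) (A : Type u) [CommRing A]

/-- Affine space as a chart of projective space. -/
theorem exists_chart_affineSpace :
    ∃ j : Spec (CommRingCat.of (MvPolynomial (Fin n) A)) ⟶ CohB1.ProjSpace n A, IsOpenImmersion j ∧
      j ≫ CohB1.ProjSpace.toSpec n A = Spec.map (CommRingCat.ofHom (algebraMap A (MvPolynomial (Fin n) A))) := by
  let e := RingEquiv.ofBijective _ (GenusZeroLib.chartPoly_bijective n A 0)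
  let ι := GradedCechLib.chartι n A 0
  haveI : IsOpenImmersion ι := inferInstanceAs (IsOpenImmersion (Proj.awayι _ _ _ _))
  refine ⟨Spec.map e.symm.toCommRingCatIso.hom ≫ ι, inferInstance, ?_⟩
  have hι : ι ≫ CohB1.ProjSpace.toSpec n A =
      Spec.map (CommRingCat.ofHom (GradedCechLib.cst n A (MvPolynomial.X 0))) := by
    simp only [ι, CohB1.ProjSpace.toSpec, GradedCechLib.chartι]
    erw [Proj.awayι_toSpecZero_assoc, ← Spec.map_comp]
    rfl
  rw [Category.assoc, hι, ← Spec.map_comp]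
  congr 1
  refine CommRingCat.hom_ext (RingHom.ext fun r => ?_)
  show e.symm (GradedCechLib.cst n A (MvPolynomial.X 0) r) = algebraMap A _ r
  rw [RingEquiv.symm_apply_eq]
  show _ = GenusZeroLib.chartPoly n A 0 (MvPolynomial.C r)
  simp [GenusZeroLib.chartPoly]

theorem isSeparated_affine {B : Type u} [CommRing B] : (Spec (CommRingCat.of B)).IsSeparated := inferInstance

/-- The differentials of affine space are free. -/
theorem nonempty_omega_free :
    Nonempty (Omega.sheaf (Spec.map (CommRingCat.ofHom (algebraMap A (MvPolynomial (Fin n) A)))) ≅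
      FlatMod.freeMod (Spec (CommRingCat.of (MvPolynomial (Fin n) A))) n) := by
  obtain ⟨e⟩ := Groth.Agent.S2157.result A (MvPolynomial (Fin n) A)
  let R := CommRingCat.of (MvPolynomial (Fin n) A)
  let f : Fin n → ModuleCat.{u} R := fun _ => ModuleCat.of R R
  let b := (KaehlerDifferential.mvPolynomialBasis A (Fin n)).equivFun
  let i : ModuleCat.of R (Ω[(MvPolynomial (Fin n) A)⁄A]) ≅ ∐ f :=
    b.toModuleIso ≪≫ ((biproduct.isoCoproduct.{0, u} f).symm ≪≫ ModuleCat.biproductIsoPi f).symm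
  exact ⟨e ≪≫ (tilde.functor R).mapIso i ≪≫ PreservesCoproduct.iso (tilde.functor R) f ≪≫
    Sigma.mapIso fun _ => tildeSelf⟩

variable [IsNoetherianRing A]
  [∀ (U V : Scheme.{u}) (j : U ⟶ V) [IsOpenImmersion j], PreservesFiniteLimits (Scheme.Modules.restrictFunctor j)]

/-- The upper shriek of the structure sheaf along affine space is the shifted structure sheaf. -/
theorem nonempty_shriek_affineSpace {Pb : Scheme.{u}}
    (j : Spec (CommRingCat.of (MvPolynomial (Fin n) A)) ⟶ Pb) [IsOpenImmersion j]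
    (π : Pb ⟶ Spec (CommRingCat.of A)) [IsProper π]
    (hπj : j ≫ π = Spec.map (CommRingCat.ofHom (algebraMap A (MvPolynomial (Fin n) A))))
    [DCoh.HasRpush π] (hπ : DCoh.RpushPreservesQCoh π) (a : DCoh.DQCoh (Spec (CommRingCat.of A)) ⥤ DCoh.DQCoh Pb)
    (adj : DCoh.RpushQ π hπ ⊣ a) (O : DCoh.DQCoh (Spec (CommRingCat.of A)))
    (hO : Nonempty (O.obj ≅ DCoh.inD _ (Coh.structureModule (Spec (CommRingCat.of A))))) :
    Nonempty ((DCoh.restrictD j).obj (a.obj O).obj ≅
      (DCoh.inD _ (Coh.structureModule (Spec (CommRingCat.of (MvPolynomial (Fin n) A)))))⟦(n : ℤ)⟧) := by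
  let g := Spec.map (CommRingCat.ofHom (algebraMap A (MvPolynomial (Fin n) A)))
  haveI : SmoothOfRelativeDimension n g := by
    rw [HasRingHomProperty.Spec_iff (P := @SmoothOfRelativeDimension n)]
    haveI := GrassLib.isStandardSmooth_mvPolynomial A (ULift.{u} (Fin n)) n Equiv.ulift
    haveI : Algebra.IsStandardSmoothOfRelativeDimension n A (MvPolynomial (Fin n) A) :=
      Algebra.IsStandardSmoothOfRelativeDimension.of_algEquiv n
        (MvPolynomial.renameEquiv A (Equiv.ulift : ULift.{u} (Fin n) ≃ Fin n))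
    exact RingHom.locally_of RingHom.isStandardSmoothOfRelativeDimension_respectsIso _
      ((RingHom.isStandardSmoothOfRelativeDimension_algebraMap _).mpr inferInstance)
  haveI : Smooth g := SmoothOfRelativeDimension.smooth n g
  have hV : FlatMod.IsFinLocFree (Omega.sheaf g) := fun x => by
    obtain ⟨U, hx, h⟩ := CohCmpLib.rank_omega g n x
    exact ⟨U, n, hx, h⟩
  obtain ⟨L, -, hL⟩ := ExtPowLib.exists_isExtPow_vb hV n
  obtain ⟨θ⟩ := nonempty_omega_free n A
  obtain ⟨eL⟩ := AVIndexLib.nonempty_iso_extPow θ hL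
  obtain ⟨es⟩ := ShriekLib.nonempty_shriek_smooth_structureSheaf n g j π hπj hπ a adj O hO L hL
  haveI : Unique (Fin (n.choose n)) := by rw [Nat.choose_self]; infer_instance
  exact ⟨es ≪≫ (shiftFunctor _ (n : ℤ)).mapIso
    ((DerivedCategory.singleFunctor _ 0).mapIso (eL ≪≫ coproductUniqueIso _))⟩

variable {A}

section Main

variable [∀ (R : CommRingCat.{u}), PreservesFiniteLimits (tilde.functor R)]

omit n

/-- On affine charts the upper shriek of the structure sheaf is the algebraic one. -/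
theorem exists_affine_model {X Y Xb : Scheme.{u}} [IsNoetherian Y] (f : X ⟶ Y)
    (j : X ⟶ Xb) (p : Xb ⟶ Y) [IsOpenImmersion j] [IsProper p] (hf : j ≫ p = f)
    [DCoh.HasRpush p] (hp : DCoh.RpushPreservesQCoh p) (a : DCoh.DQCoh Y ⥤ DCoh.DQCoh Xb)
    (adj : DCoh.RpushQ p hp ⊣ a) (O : DCoh.DQCoh Y)
    (hO : Nonempty (O.obj ≅ DCoh.inD Y (Coh.structureModule Y)))
    (W : Y.Opens) (hW : IsAffineOpen W) (V : X.Opens) (hV : IsAffineOpen V) (hVW : V ≤ f ⁻¹ᵁ W) :
    letI : Algebra Γ(Y, W) Γ(X, V) := (f.appLE W V hVW).hom.toAlgebra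
    ∃ (n : ℕ) (ψ : MvPolynomial (Fin n) Γ(Y, W) →ₐ[Γ(Y, W)] Γ(X, V)) (_ : Function.Surjective ψ)
      (_ : DRing.HasLBaseChange (algebraMap Γ(Y, W) (MvPolynomial (Fin n) Γ(Y, W))))
      (Rψ : Dual.D (MvPolynomial (Fin n) Γ(Y, W)) ⥤ Dual.D Γ(X, V))
      (_ : DRing.restrictD ψ.toRingHom ⊣ Rψ),
      Nonempty ((DCoh.restrictD hV.fromSpec).obj ((DCoh.restrictD j).obj (a.obj O).obj) ≅
        (DCoh.tildeD Γ(X, V)).obj (Dual2.shriekVia n Rψ (Dual.inD Γ(Y, W) Γ(Y, W)))) := by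
  letI : Algebra Γ(Y, W) Γ(X, V) := (f.appLE W V hVW).hom.toAlgebra
  haveI := ShriekLib.isNoetherian_of_proper p
  haveI : IsLocallyNoetherian X := isLocallyNoetherian_of_isOpenImmersion j
  haveI : LocallyOfFiniteType f := by rw [← hf]; infer_instance
  haveI : IsNoetherianRing Γ(Y, W) := IsLocallyNoetherian.component_noetherian ⟨W, hW⟩
  haveI : IsNoetherianRing Γ(X, V) := IsLocallyNoetherian.component_noetherian ⟨V, hV⟩
  haveI : Algebra.FiniteType Γ(Y, W) Γ(X, V) := f.finiteType_appLE hW hV hVW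
  obtain ⟨n, ψ, hψ⟩ := Algebra.FiniteType.iff_quotient_mvPolynomial''.1
    (inferInstance : Algebra.FiniteType Γ(Y, W) Γ(X, V))
  let P := MvPolynomial (Fin n) Γ(Y, W)
  haveI := DRingLib.hasLBaseChange (algebraMap Γ(Y, W) P)
  obtain ⟨⟨Rψ, adjψ⟩⟩ := ShriekRingLib.exists_rightAdjoint ψ.toRingHom
  refine ⟨n, ψ, hψ, inferInstance, Rψ, adjψ, ?_⟩
  let φ := CommRingCat.ofHom ψ.toRingHom
  let k : Spec Γ(X, V) ⟶ Spec (CommRingCat.of P) := Spec.map φ
  haveI : IsClosedImmersion k := IsClosedImmersion.spec_of_surjective φ hψ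
  obtain ⟨jP, hjP, hjπ⟩ := exists_chart_affineSpace n Γ(Y, W)
  haveI := hjP
  let π := CohB1.ProjSpace.toSpec n Γ(Y, W)
  haveI : IsProper π := (KoszOrthLib.projSpace_hyps n _).1
  haveI := ShriekLib.isNoetherian_of_proper π
  haveI := DCohRestrLib.hasRpush π
  haveI := DCohRestrLib.hasRpush k
  have hπ : DCoh.RpushPreservesQCoh π := ShriekLib.hpush π
  have hk : DCoh.RpushPreservesQCoh k := ShriekLib.hpush k
  obtain ⟨aπ, ⟨adjπ⟩⟩ := ShriekLib.exists_rightAdjoint π hπ
  obtain ⟨ak, ⟨adjk⟩⟩ := ShriekLib.exists_rightAdjoint k hk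
  have hkh : k ≫ jP ≫ π = Spec.map (f.appLE W V hVW) := by
    rw [hjπ, ← Spec.map_comp]
    congr 1
    ext r
    exact ψ.commutes r
  obtain ⟨cF⟩ := ShriekLib.nonempty_shriek_factor f j p hf hp a adj hV.fromSpec hW.fromSpec k jP π
    (by rw [← Category.assoc jP π, ← Category.assoc k, hkh]; exact hW.SpecMap_appLE_fromSpec f hV hVW)
    hk ak adjk hπ aπ adjπ
  obtain ⟨eO⟩ := hO
  have hb : Dual3.IsBddBelowQ Y O := by
    haveI : (DCoh.inD Y (Coh.structureModule Y)).IsGE 0 := inferInstance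
    exact ⟨0, DerivedCategory.TStructure.t.isGE_of_iso eO.symm 0⟩
  let OA := (ShriekLib.restrictQ hW.fromSpec).obj O
  let eOA : OA.obj ≅ DCoh.inD _ (Coh.structureModule (Spec Γ(Y, W))) :=
    (DCoh.restrictD hW.fromSpec).mapIso eO ≪≫ DualCxLib.restrictInDUnit hW.fromSpec
  obtain ⟨eS⟩ := nonempty_shriek_affineSpace n Γ(Y, W) jP π hjπ hπ aπ adjπ OA ⟨eOA⟩
  obtain ⟨η, hη⟩ := TorIndBCLib.exists_univ_base (algebraMap Γ(Y, W) P) (Dual.inD Γ(Y, W) Γ(Y, W))
  obtain ⟨eu⟩ := ShriekRingLib.nonempty_univ_unit_iso hη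
  let M := ((DRing.LBaseChange (algebraMap Γ(Y, W) P)).obj (Dual.inD Γ(Y, W) Γ(Y, W)))⟦(n : ℤ)⟧
  let eM : ((ShriekLib.restrictQ jP).obj (aπ.obj OA)).obj ≅ (DCoh.tildeD (CommRingCat.of P)).obj M :=
    eS ≪≫ (shiftFunctor _ (n : ℤ)).mapIso ((DualCxLib.tildeInDSelf (CommRingCat.of P)).symm ≪≫
        (DCoh.tildeD (CommRingCat.of P)).mapIso (eu ≪≫ (ShriekRingLib.inDUnit P).symm).symm) ≪≫
      (((DCoh.tildeD (CommRingCat.of P)).commShiftIso (n : ℤ)).app _).symm
  let eMQ : (ShriekLib.restrictQ jP).obj (aπ.obj OA) ≅ (tildeQ (CommRingCat.of P)).obj M :=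
    (DCoh.IsQCohD (X := Spec (CommRingCat.of P))).fullyFaithfulι.preimageIso eM
  obtain ⟨τ⟩ := nonempty_rightAdjoint_spec φ hk ak adjk Rψ adjψ
  haveI := KFlatLib.hasLpull (𝟙 (Spec Γ(X, V)))
  haveI := DCohRestrLib.hasRpush (𝟙 (Spec Γ(X, V)))
  obtain ⟨i₁⟩ := Dual3Lib.nonempty_lpull_id (𝟙 (Spec Γ(X, V))) rfl
  let v : DCoh.restrictD (𝟙 (Spec Γ(X, V))) ≅ 𝟭 _ := (DualFMLib.lpullRestrIso (𝟙 _)).symm ≪≫ i₁
  haveI : (DRing.restrictD ψ.toRingHom).IsTriangulated := inferInstance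
  letI := adjψ.rightAdjointCommShift ℤ
  exact ⟨(DCoh.IsQCohD (X := Spec Γ(X, V))).ι.mapIso (cF.app ⟨O, hb⟩) ≪≫ v.app _ ≪≫
    (DCoh.IsQCohD (X := Spec Γ(X, V))).ι.mapIso (ak.mapIso eMQ ≪≫ (τ.app M).symm) ≪≫
    (DCoh.tildeD Γ(X, V)).mapIso ((Rψ.commShiftIso (n : ℤ)).app _)⟩

end Main

end ShriekAffLib
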